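import Mathlib

/-! Definitions for the derangement-subgroup index bound (S3550, S5732). -/

namespace H38.Drg
open Subgroup

section lin
variable {W : Type*} [Group W]

/-- vectors fixed by every element of `Y` -/
def fx (V : Type*) [Group V] [MulDistribMulAction W V] (Y : Subgroup W) : Subgroup V where
  carrier := {v | ∀ y ∈ Y, y • v = v}
  one_mem' := fun y _ => smul_one y
  mul_mem' := fun {a b} ha hb y hy => by rw [smul_mul', ha y hy, hb y hy]
  inv_mem' := fun {a} ha y hy => by rw [smul_inv', ha y hy]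

/-- vectors fixed by `y` -/
def fx1 (V : Type*) [Group V] [MulDistribMulAction W V] (y : W) : Subgroup V where
  carrier := {v | y • v = v}
  one_mem' := smul_one y
  mul_mem' := fun {a b} ha hb => by
    have ha' : y • a = a := ha
    have hb' : y • b = b := hb
    show y • (a * b) = a * b
    rw [smul_mul', ha', hb']
  inv_mem' := fun {a} ha => by
    have ha' : y • a = a := ha
    show y • a⁻¹ = a⁻¹
    rw [smul_inv', ha']

variable {V : Type*} [Group V] [MulDistribMulAction W V]

theorem mem_fx {Y : Subgroup W} {v : V} : v ∈ fx V Y ↔ ∀ y ∈ Y, y • v = v := Iff.rfl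

theorem mem_fx1 {y : W} {v : V} : v ∈ fx1 V y ↔ y • v = v := Iff.rfl

/-- the action is faithful and the elements outside `K` are fixed point free -/
structure Out (V : Type*) [Group V] [MulDistribMulAction W V] (K : Subgroup W) : Prop where
  faith : ∀ w : W, (∀ v : V, w • v = v) → w = 1
  out : ∀ w : W, w ∉ K → ∀ v : V, w • v = v → v = 1

/-- some non-identity element of `E` fixes a non-identity vector -/
def NS (V : Type*) [Group V] [MulDistribMulAction W V] (E : Subgroup W) : Prop :=
  ∃ y ∈ E, y ≠ 1 ∧ ∃ v : V, v ≠ 1 ∧ y • v = v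

/-- `E` is an `s`-group of symplectic type with `Φ(E) ≤ ⟨z⟩ = Ω₁(Z(E))`, `z` fixed point free -/
structure XS (V : Type*) [Group V] [MulDistribMulAction W V] (s : ℕ) (E : Subgroup W) (z : W) :
    Prop where
  prime : s.Prime
  cop : Nat.Coprime s (Nat.card V)
  zE : z ∈ E
  ord : orderOf z = s
  cen : ∀ a ∈ E, a * z = z * a
  fpf : ∀ v : V, z • v = v → v = 1
  comm : ∀ a ∈ E, ∀ b ∈ E, a * b * a⁻¹ * b⁻¹ ∈ zpowers z
  pow : ∀ a ∈ E, a ^ s ∈ zpowers z
  omega : ∀ a ∈ E, (∀ b ∈ E, a * b = b * a) → a ^ s = 1 → a ∈ zpowers z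

end lin

/-- the conjugates of the non-identity elements of `S` -/
def cj {G : Type*} [Group G] (S : Subgroup G) : Set G :=
  {g | ∃ x : G, ∃ y ∈ S, y ≠ 1 ∧ g = x * y * x⁻¹}

theorem mem_cj {G : Type*} [Group G] {S : Subgroup G} {g : G} :
    g ∈ cj S ↔ ∃ x : G, ∃ y ∈ S, y ≠ 1 ∧ g = x * y * x⁻¹ := Iff.rfl

/-- `S` is an abelian regular subgroup which is the centraliser of each of its non-identity
elements -/
structure Reg {G : Type*} [Group G] (Ω : Type*) [MulAction G Ω] (S : Subgroup G) : Prop where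
  comm : ∀ a ∈ S, ∀ b ∈ S, a * b = b * a
  tr : MulAction.IsPretransitive S Ω
  card : Nat.card S = Nat.card Ω
  cent : ∀ y ∈ S, y ≠ 1 → centralizer ({y} : Set G) = S

end H38.Drg
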