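import Mathlib
import Cfsg.Agent.Lib.Drg.Defs

namespace H38.Drg
open Subgroup MulAction

variable {W V : Type*} [Group W] [Finite W] [Group V] [Finite V] [MulDistribMulAction W V]

/-- orbit inequality: `r |E : E_v| ≤ |X|` -/
theorem orb_le {K : Subgroup W} (h : Out V K) (E : Subgroup W) (hE : E ≤ K) {v : V} (hv : v ≠ 1)
    (X : Set V) (hX : ∀ w : W, ∀ u ∈ X, w • u ∈ X) (hvX : v ∈ X) :
    K.index * Nat.card E ≤ X.ncard * Nat.card (E ⊓ stabilizer W v : Subgroup W) := by
  have hS : stabilizer W v ≤ K := by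
    intro w hw
    by_contra hc
    exact hv (h.out w hc v hw)
  have h1 : (stabilizer W v).index ≤ X.ncard := by
    rw [index_stabilizer]
    apply Set.ncard_le_ncard _ (Set.toFinite X)
    rintro _ ⟨w, rfl⟩
    exact hX w v hvX
  have h2 : (stabilizer W v).relIndex K * K.index = (stabilizer W v).index :=
    relIndex_mul_index hS
  have h3 : (stabilizer W v).relIndex E ≤ (stabilizer W v).relIndex K :=
    relIndex_le_of_le_right hE index_ne_zero_of_finite
  have h4 : (stabilizer W v).relIndex E * Nat.card (E ⊓ stabilizer W v : Subgroup W) =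
      Nat.card E := by
    have h5 := ((stabilizer W v).subgroupOf E).index_mul_card
    have h6 : Nat.card ((stabilizer W v).subgroupOf E) =
        Nat.card (E ⊓ stabilizer W v : Subgroup W) := by
      refine Nat.card_congr ⟨fun x => ⟨x.1.1, x.1.2, x.2⟩, fun x => ⟨⟨x.1, x.2.1⟩, x.2.2⟩, ?_, ?_⟩
      · intro x; rfl
      · intro x; rfl
    rw [← h6]; exact h5
  calc K.index * Nat.card E
      = ((stabilizer W v).relIndex E * K.index) * Nat.card (E ⊓ stabilizer W v : Subgroup W) := by
        rw [← h4]; ring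
    _ ≤ X.ncard * Nat.card (E ⊓ stabilizer W v : Subgroup W) := by
        apply Nat.mul_le_mul_right
        exact le_trans (Nat.mul_le_mul_right _ h3) (h2 ▸ h1)

namespace A0

theorem mem_of_fpf (g : W) (hg : ∀ v : V, g • v = v → v = 1) (U : Subgroup V)
    (hU : ∀ u ∈ U, g • u ∈ U) {v : V} (hv : v⁻¹ * g • v ∈ U) : v ∈ U := by
  have hinj : ∀ x y : V, x⁻¹ * g • x = y⁻¹ * g • y → x = y := by
    intro x y hxy
    have : g • (y * x⁻¹) = y * x⁻¹ := by
      rw [smul_mul', smul_inv']
      have h1 : g • y = y * (x⁻¹ * g • x) := by rw [hxy]; group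
      rw [h1]; group
    exact (mul_inv_eq_one.1 (hg _ this)).symm
  let f : U → U := fun u => ⟨(u : V)⁻¹ * g • (u : V), U.mul_mem (U.inv_mem u.2) (hU u u.2)⟩
  have hf : Function.Injective f := fun a b hab =>
    Subtype.ext (hinj _ _ (congrArg Subtype.val hab))
  obtain ⟨u, hu⟩ := (Finite.injective_iff_surjective.1 hf) ⟨_, hv⟩
  have := hinj _ _ (congrArg Subtype.val hu)
  rw [← this]; exact u.2

end A0

/-- a proper invariant normal subgroup gives the bound -/
theorem inv_sub {K : Subgroup W} (h : Out V K) (U : Subgroup V) [U.Normal]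
    (hU : ∀ w : W, ∀ u ∈ U, w • u ∈ U) (h0 : U ≠ ⊥) (h1 : U ≠ ⊤) :
    (K.index + 1) ^ 2 ≤ Nat.card V := by
  classical
  have hA : K.index + 1 ≤ Nat.card U := by
    obtain ⟨⟨v, hvU⟩, hv⟩ := (ne_bot_iff_exists_ne_one.1 h0)
    have hv' : v ≠ 1 := fun e => hv (Subtype.ext e)
    have h2 := orb_le h ⊥ bot_le hv' ((U : Set V) \ {1}) (fun w u hu => ⟨hU w u hu.1, fun e => hu.2 (by
      have := congrArg (fun x => w⁻¹ • x) (Set.mem_singleton_iff.1 e)
      simpa using this)⟩) ⟨hvU, hv'⟩
    rw [bot_inf_eq, card_bot, mul_one, mul_one] at h2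
    have h3 : ((U : Set V) \ {1}).ncard + 1 = (U : Set V).ncard :=
      Set.ncard_sdiff_singleton_add_one U.one_mem
    have h4 : (U : Set V).ncard = Nat.card U := (Nat.card_coe_set_eq _).symm
    omega
  have hB : K.index + 1 ≤ U.index := by
    obtain ⟨v, hv⟩ : ∃ v : V, v ∉ U := by
      by_contra hc
      push Not at hc
      exact h1 (eq_top_iff.2 fun v _ => hc v)
    let f : Option (W ⧸ K) → V ⧸ U := fun o => o.elim ((1 : V) : V ⧸ U) fun c => ((c.out • v : V) : V ⧸ U)
    have hne : ∀ c : W ⧸ K, ((1 : V) : V ⧸ U) ≠ ((c.out • v : V) : V ⧸ U) := by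
      intro c hc
      rw [QuotientGroup.eq] at hc
      apply hv
      have := hU c.out⁻¹ _ hc
      simpa using this
    have hf : Function.Injective f := by
      rintro (_ | a) (_ | b) hab
      · rfl
      · exact absurd hab (hne b)
      · exact absurd hab.symm (hne a)
      · have h2 : ((a.out • v : V) : V ⧸ U) = ((b.out • v : V) : V ⧸ U) := hab
        rw [QuotientGroup.eq] at h2
        have h3 := hU a.out⁻¹ _ h2
        have h4 : v⁻¹ * (a.out⁻¹ * b.out) • v ∈ U := by
          simpa [smul_mul', smul_inv', mul_smul] using h3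
        by_cases hk : a.out⁻¹ * b.out ∈ K
        · have : a = b := by
            rw [← a.out_eq, ← b.out_eq]
            exact QuotientGroup.eq.2 hk
          rw [this]
        · exact absurd (A0.mem_of_fpf _ (h.out _ hk) U (hU _) h4) hv
    have := Nat.card_le_card_of_injective f hf
    rwa [Finite.card_option] at this
  rw [← U.card_mul_index, pow_two]
  exact Nat.mul_le_mul hA hB

/-- a normal subgroup `1 ≠ Z ⊴ W` with a fixed vector gives the bound -/
theorem inv_fx {K : Subgroup W} (h : Out V K) (hc : ∀ a b : V, a * b = b * a) (Z : Subgroup W)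
    [Z.Normal] (hZ : Z ≠ ⊥) {v : V} (hv : v ≠ 1) (hf : ∀ y ∈ Z, y • v = v) :
    (K.index + 1) ^ 2 ≤ Nat.card V := by
  haveI : (fx V Z).Normal := ⟨fun n hn g => by rw [hc g n, mul_inv_cancel_right]; exact hn⟩
  refine inv_sub h (fx V Z) (fun w u hu y hy => ?_) (fun e => hv ?_) (fun e => hZ ?_)
  · have h1 : w⁻¹ * y * w ∈ Z := by
      have := ‹Z.Normal›.conj_mem y hy w⁻¹
      simpa using this
    have h2 := congrArg (fun x => w • x) (hu _ h1)
    simpa [mul_smul] using h2
  · have : v ∈ fx V Z := hf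
    rw [e] at this
    exact mem_bot.1 this
  · rw [eq_bot_iff]
    intro y hy
    refine mem_bot.2 (h.faith y fun u => ?_)
    have : u ∈ fx V Z := e ▸ mem_top u
    exact this y hy

end H38.Drg
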