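import Mathlib
import Cfsg.Agent.Lib.Drg.Defs

namespace H38.Drg
open Subgroup MulAction

variable {W V : Type*} [Group W] [Finite W] [CommGroup V] [Finite V] [MulDistribMulAction W V]

namespace A2

omit [Finite W] [Finite V] in
theorem pow_mem_inv (U : Subgroup V) (x : W) (hxU : ∀ u ∈ U, x • u ∈ U) (i : ℕ) :
    ∀ u ∈ U, x ^ i • u ∈ U := by
  induction i with
  | zero => intro u hu; simpa using hu
  | succ n ih => intro u hu; rw [pow_succ', mul_smul]; exact hxU _ (ih u hu)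

omit [Finite W] [Finite V] in
theorem pow_fix (x : W) (v : V) (h : x • v = v) (i : ℕ) : x ^ i • v = v := by
  induction i with
  | zero => simp
  | succ n ih => rw [pow_succ', mul_smul, ih, h]

omit [Finite W] [Finite V] in
theorem smul_prod (x : W) (s : ℕ) (f : ℕ → V) :
    x • ∏ i ∈ Finset.range s, f i = ∏ i ∈ Finset.range s, x • f i :=
  map_prod (MulDistribMulAction.toMonoidHom V x) f _

omit [Finite W] [Finite V] in
theorem nm_fix {s : ℕ} (x : W) (hx : x ^ s = 1) (u : V) :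
    x • ∏ i ∈ Finset.range s, x ^ i • u = ∏ i ∈ Finset.range s, x ^ i • u := by
  rw [smul_prod]
  have h1 := Finset.prod_range_succ (fun i => x ^ i • u) s
  have h2 := Finset.prod_range_succ' (fun i => x ^ i • u) s
  simp only [hx, pow_zero] at h1 h2
  have h3 : ∏ i ∈ Finset.range s, x • x ^ i • u = ∏ i ∈ Finset.range s, x ^ (i + 1) • u :=
    Finset.prod_congr rfl fun i _ => by rw [pow_succ', mul_smul]
  rw [h3]
  exact mul_right_cancel (h2.symm.trans h1)

omit [Finite W] [Finite V] in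
theorem nm_mem (U : Subgroup V) (s : ℕ) (x : W) (hxU : ∀ u ∈ U, x • u ∈ U) {u : V} (hu : u ∈ U) :
    ∏ i ∈ Finset.range s, x ^ i • u ∈ U :=
  U.prod_mem fun i _ => pow_mem_inv U x hxU i u hu

omit [Finite W] [Finite V] in
theorem pow_fpf {s : ℕ} (hs : s.Prime) (U : Subgroup V) (z : W) (hz : z ^ s = 1)
    (hzf : ∀ u ∈ U, z • u = u → u = 1) {i : ℕ} (hi : ¬ s ∣ i) :
    ∀ u ∈ U, z ^ i • u = u → u = 1 := by
  intro u hu h
  apply hzf u hu
  have hco : Nat.Coprime i s := ((Nat.Prime.coprime_iff_not_dvd hs).2 hi).symm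
  obtain ⟨m, hm⟩ := Nat.exists_mul_mod_eq_one_of_coprime hco hs.one_lt
  have h1 : z = (z ^ i) ^ m := by
    rw [← pow_mul, ← Nat.div_add_mod (i * m) s, pow_add, pow_mul, hz, one_pow, one_mul]
    first
      | rw [hm, pow_one]
      | rw [hm.2, pow_one]
  rw [h1]
  exact pow_fix _ _ h m

omit [Finite W] [Finite V] in
theorem nm_one {s : ℕ} (hs : s.Prime) (U : Subgroup V) (z : W) (hz : z ^ s = 1)
    (hzU : ∀ u ∈ U, z • u ∈ U) (hzf : ∀ u ∈ U, z • u = u → u = 1) {i : ℕ} (hi : ¬ s ∣ i)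
    {u : V} (hu : u ∈ U) : ∏ k ∈ Finset.range s, (z ^ i) ^ k • u = 1 := by
  apply pow_fpf hs U z hz hzf hi _ (nm_mem U s _ (pow_mem_inv U z hzU i) hu)
  apply nm_fix
  rw [← pow_mul, mul_comm, pow_mul, hz, one_pow]

omit [Finite W] in
theorem root {s : ℕ} (hcop : Nat.Coprime s (Nat.card V)) (U : Subgroup V) {u : V} (hu : u ∈ U) :
    ∃ u' ∈ U, u' ^ s = u := by
  have hc : (Nat.card U).Coprime s :=
    (Nat.Coprime.coprime_dvd_right (card_subgroup_dvd_card U) hcop).symm
  obtain ⟨u', h⟩ := (powCoprime hc).surjective ⟨u, hu⟩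
  exact ⟨u', u'.2, by simpa using congrArg Subtype.val h⟩

omit [Finite W] in
theorem eq_one_of_pow {s : ℕ} (hcop : Nat.Coprime s (Nat.card V)) {u : V} (h : u ^ s = 1) :
    u = 1 := by
  apply (powCoprime hcop.symm).injective
  simpa using h

end A2

open A2 in
/-- decomposition under `⟨y, z⟩` of type `(s, s)` with `z` fixed point free -/
theorem ss_card {s : ℕ} (hs : s.Prime) (hcop : Nat.Coprime s (Nat.card V)) (U : Subgroup V)
    (y z : W) (hy : y ^ s = 1) (hz : z ^ s = 1) (hc : y * z = z * y)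
    (hyU : ∀ u ∈ U, y • u ∈ U) (hzU : ∀ u ∈ U, z • u ∈ U)
    (hzf : ∀ u ∈ U, z • u = u → u = 1) :
    Nat.card U = ∏ k ∈ Finset.range s, Nat.card (U ⊓ fx1 V (y * z ^ k) : Subgroup V) := by
  have hcm : Commute y z := hc
  have hk1 : ∀ k : ℕ, (y * z ^ k) ^ s = 1 := fun k => by
    rw [(hcm.pow_right k).mul_pow, hy, one_mul, ← pow_mul, mul_comm, pow_mul, hz, one_pow]
  have hkU : ∀ k : ℕ, ∀ u ∈ U, (y * z ^ k) • u ∈ U := fun k u hu => by
    rw [mul_smul]; exact hyU _ (pow_mem_inv U z hzU k u hu)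
  let Φ : (∀ k : Fin s, (U ⊓ fx1 V (y * z ^ (k : ℕ)) : Subgroup V)) →* U :=
    { toFun := fun f => ⟨∏ k, (f k : V), U.prod_mem fun k _ => (f k).2.1⟩
      map_one' := by ext; simp
      map_mul' := fun f g => by ext; simp [Finset.prod_mul_distrib] }
  have hΦ : ∀ f, (Φ f : V) = ∏ k, (f k : V) := fun f => rfl
  have hsurj : Function.Surjective Φ := by
    rintro ⟨u, hu⟩
    obtain ⟨u', hu', rfl⟩ := root hcop U hu
    refine ⟨fun k => ⟨∏ i ∈ Finset.range s, (y * z ^ (k : ℕ)) ^ i • u',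
      nm_mem U s _ (hkU k) hu', nm_fix _ (hk1 k) u'⟩, ?_⟩
    ext
    rw [hΦ]
    show ∏ k : Fin s, ∏ i ∈ Finset.range s, (y * z ^ (k : ℕ)) ^ i • u' = u' ^ s
    rw [Fin.prod_univ_eq_prod_range (fun k => ∏ i ∈ Finset.range s, (y * z ^ k) ^ i • u') s,
      Finset.prod_comm]
    have h1 : ∀ i ∈ Finset.range s, ∏ k ∈ Finset.range s, (y * z ^ k) ^ i • u' =
        y ^ i • ∏ k ∈ Finset.range s, (z ^ i) ^ k • u' := fun i _ => by
      rw [smul_prod]
      refine Finset.prod_congr rfl fun k _ => ?_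
      rw [(hcm.pow_right k).mul_pow, mul_smul, ← pow_mul, ← pow_mul, mul_comm k i]
    rw [Finset.prod_congr rfl h1,
      Finset.prod_eq_single_of_mem 0 (Finset.mem_range.2 hs.pos)]
    · simp
    · intro i hi hi0
      rw [nm_one hs U z hz hzU hzf (Nat.not_dvd_of_pos_of_lt (Nat.pos_of_ne_zero hi0)
        (Finset.mem_range.1 hi)) hu', smul_one]
  have hinj : Function.Injective Φ := by
    rw [injective_iff_map_eq_one]
    intro f hf
    have hf' : ∏ k, (f k : V) = 1 := by rw [← hΦ, hf]; rfl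
    funext l
    have h1 : ∏ i ∈ Finset.range s, (y * z ^ (l : ℕ)) ^ i • ∏ k, (f k : V) = 1 := by
      rw [hf']; simp
    have h2 : ∀ i ∈ Finset.range s, (y * z ^ (l : ℕ)) ^ i • ∏ k, (f k : V) =
        ∏ k, (y * z ^ (l : ℕ)) ^ i • (f k : V) := fun i _ =>
      map_prod (MulDistribMulAction.toMonoidHom V ((y * z ^ (l : ℕ)) ^ i)) _ _
    rw [Finset.prod_congr rfl h2, Finset.prod_comm,
      Finset.prod_eq_single_of_mem l (Finset.mem_univ _)] at h1
    · have h3 : ∀ i ∈ Finset.range s, (y * z ^ (l : ℕ)) ^ i • (f l : V) = f l := fun i _ =>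
        pow_fix _ _ (f l).2.2 i
      rw [Finset.prod_congr rfl h3, Finset.prod_const, Finset.card_range] at h1
      ext
      exact eq_one_of_pow hcop h1
    · intro k _ hkl
      have hk := k.2
      have hl := l.2
      have hne : (k : ℕ) ≠ l := fun h => hkl (Fin.ext h)
      have h4 : y * z ^ (l : ℕ) = z ^ (l + s - k) * (y * z ^ (k : ℕ)) := by
        rw [← mul_assoc, ← (hcm.pow_right _).eq, mul_assoc, ← pow_add,
          show (l : ℕ) + s - k + k = l + s by omega, pow_add, hz, mul_one]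
      have h5 : ¬ s ∣ (l : ℕ) + s - k := by
        rintro ⟨c, hc'⟩
        rcases c with _ | _ | c
        · omega
        · omega
        · have : s * (c + 1 + 1) = s * c + s + s := by ring
          omega
      have h6 : ∀ i ∈ Finset.range s, (y * z ^ (l : ℕ)) ^ i • (f k : V) =
          (z ^ ((l : ℕ) + s - k)) ^ i • (f k : V) := fun i _ => by
        have hcc : Commute (z ^ ((l : ℕ) + s - k)) (y * z ^ (k : ℕ)) :=
          (hcm.symm.pow_left _).mul_right (Commute.pow_pow_self z _ _)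
        rw [h4, hcc.mul_pow, mul_smul, pow_fix _ _ (f k).2.2 i]
      rw [Finset.prod_congr rfl h6]
      exact nm_one hs U z hz hzU hzf h5 (f k).2.1
  rw [← Nat.card_congr (Equiv.ofBijective Φ ⟨hinj, hsurj⟩), Nat.card_pi,
    Fin.prod_univ_eq_prod_range (fun k => Nat.card (U ⊓ fx1 V (y * z ^ k) : Subgroup V)) s]

/-- a group of type `(s, s)` is not semiregular -/
theorem ss_ns {s : ℕ} (hs : s.Prime) (hcop : Nat.Coprime s (Nat.card V)) [Nontrivial V]
    (y z : W) (hy : y ^ s = 1) (hz : z ^ s = 1) (hc : y * z = z * y)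
    (hzf : ∀ u : V, z • u = u → u = 1) : ∃ k : ℕ, ∃ v : V, v ≠ 1 ∧ (y * z ^ k) • v = v := by
  by_contra hno
  push Not at hno
  have h := ss_card hs hcop ⊤ y z hy hz hc (fun _ _ => trivial) (fun _ _ => trivial)
    (fun u _ => hzf u)
  have h1 : ∀ k ∈ Finset.range s, Nat.card (⊤ ⊓ fx1 V (y * z ^ k) : Subgroup V) = 1 := by
    intro k _
    rw [card_eq_one, eq_bot_iff]
    intro v hv
    by_contra hv1
    exact hno k v hv1 hv.2
  rw [Finset.prod_congr rfl h1, Finset.prod_const_one, card_eq_one] at h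
  exact absurd h top_ne_bot

end H38.Drg
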