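import Mathlib
import Cfsg.Agent.Lib.Drg.Defs
import Cfsg.Agent.Lib.Drg.A2

namespace H38.Drg
open Subgroup MulAction

variable {W V : Type*} [Group W] [Finite W] [CommGroup V] [Finite V] [MulDistribMulAction W V]

namespace KL

theorem hom_li (X : Type*) [Group X] :
    LinearIndependent ℂ (fun f : X →* ℂˣ => fun x : X => ((f x : ℂˣ) : ℂ)) := by
  have h := (linearIndependent_monoidHom X ℂ).comp (fun f : X →* ℂˣ => (Units.coeHom ℂ).comp f)
    (fun f g hfg => by
      ext x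
      exact DFunLike.congr_fun hfg x)
  exact h

theorem hom_fin (X : Type*) [Group X] [Finite X] : Finite (X →* ℂˣ) :=
  (hom_li X).finite

theorem hom_le (X : Type*) [Group X] [Finite X] : Nat.card (X →* ℂˣ) ≤ Nat.card X := by
  haveI := hom_fin X
  haveI := Fintype.ofFinite (X →* ℂˣ)
  haveI := Fintype.ofFinite X
  have h := (hom_li X).fintype_card_le_finrank
  rw [Module.finrank_fintype_fun_eq_card] at h
  simpa [Nat.card_eq_fintype_card] using h

theorem pair_index {A B : Type*} [Group A] [Group B] [Finite B] (β : A →* B →* ℂˣ)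
    (h : ∀ b, (∀ a, β a b = 1) → b = 1) : β.ker.index = Nat.card B := by
  haveI := hom_fin B
  haveI := hom_fin β.range
  rw [index_ker]
  apply le_antisymm
  · exact (Nat.card_le_card_of_injective _ β.range.subtype_injective).trans (hom_le B)
  · refine le_trans (Nat.card_le_card_of_injective
      (fun b : B => (MonoidHom.eval b : (B →* ℂˣ) →* ℂˣ).comp β.range.subtype) ?_) (hom_le _)
    intro b b' hb
    have h1 : b * b'⁻¹ = 1 := h _ fun a => by
      have h2 : β a b = β a b' := DFunLike.congr_fun hb ⟨β a, a, rfl⟩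
      rw [map_mul, map_inv, h2, mul_inv_cancel]
    exact mul_inv_eq_one.1 h1

theorem exists_emb {s : ℕ} (hs : s.Prime) (z : W) (hz : orderOf z = s) :
    ∃ ι : zpowers z →* ℂˣ, Function.Injective ι := by
  haveI : NeZero s := ⟨hs.ne_zero⟩
  have h1 : Nat.card (zpowers z) = Nat.card (rootsOfUnity s ℂ) := by
    rw [Nat.card_zpowers, hz, Complex.card_rootsOfUnity]
  let e := mulEquivOfCyclicCardEq h1
  exact ⟨(rootsOfUnity s ℂ).subtype.comp e.toMonoidHom,
    (rootsOfUnity s ℂ).subtype_injective.comp e.injective⟩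

variable {s : ℕ} {E : Subgroup W} {z : W}

omit [Finite V] in
theorem inf_triv (h : XS V s E z) {Y : Subgroup W} (hz : z ∉ Y) {a : W} (ha : a ∈ Y)
    (haz : a ∈ zpowers z) : a = 1 := by
  by_contra ha1
  apply hz
  haveI : Fact (Nat.card (zpowers z)).Prime := ⟨by rw [Nat.card_zpowers, h.ord]; exact h.prime⟩
  rcases (Y.subgroupOf (zpowers z)).eq_bot_or_eq_top_of_prime_card with h1 | h1
  · have h2 : (⟨a, haz⟩ : zpowers z) ∈ Y.subgroupOf (zpowers z) := ha
    rw [h1, mem_bot] at h2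
    exact absurd (congrArg Subtype.val h2) ha1
  · have h2 : (⟨z, mem_zpowers z⟩ : zpowers z) ∈ Y.subgroupOf (zpowers z) := by
      rw [h1]; trivial
    exact h2

omit [Finite W] [Finite V] in
theorem zp_cen (h : XS V s E z) {c : W} (hc : c ∈ zpowers z) {a : W} (ha : a ∈ E) :
    a * c = c * a := by
  obtain ⟨k, rfl⟩ := hc
  exact (Commute.zpow_right (h.cen a ha) k).eq

omit [Finite W] [Finite V] in
theorem cm_left (h : XS V s E z) {a a' b : W} (ha : a ∈ E) (ha' : a' ∈ E) (hb : b ∈ E) :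
    a * a' * b * (a * a')⁻¹ * b⁻¹ = (a * b * a⁻¹ * b⁻¹) * (a' * b * a'⁻¹ * b⁻¹) := by
  have h1 := zp_cen h (h.comm a' ha' b hb) ha
  have h2 := zp_cen h (h.comm a' ha' b hb)
    (E.mul_mem (E.mul_mem (E.mul_mem ha hb) (E.inv_mem ha)) (E.inv_mem hb))
  rw [h2]
  calc a * a' * b * (a * a')⁻¹ * b⁻¹ = (a * (a' * b * a'⁻¹ * b⁻¹)) * (b * a⁻¹ * b⁻¹) := by group
    _ = _ := by rw [h1]; group

omit [Finite W] [Finite V] in
theorem cm_right (h : XS V s E z) {a b b' : W} (ha : a ∈ E) (hb : b ∈ E) (hb' : b' ∈ E) :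
    a * (b * b') * a⁻¹ * (b * b')⁻¹ = (a * b * a⁻¹ * b⁻¹) * (a * b' * a⁻¹ * b'⁻¹) := by
  have h1 := zp_cen h (h.comm a ha b' hb') hb
  calc a * (b * b') * a⁻¹ * (b * b')⁻¹
      = (a * b * a⁻¹ * b⁻¹) * (b * (a * b' * a⁻¹ * b'⁻¹)) * b⁻¹ := by group
    _ = _ := by rw [h1]; group

omit [Finite V] in
theorem y_comm (h : XS V s E z) {Y : Subgroup W} (hY : Y ≤ E) (hz : z ∉ Y) {a b : W}
    (ha : a ∈ Y) (hb : b ∈ Y) : a * b = b * a := by
  have h1 := inf_triv h hz
    (Y.mul_mem (Y.mul_mem (Y.mul_mem ha hb) (Y.inv_mem ha)) (Y.inv_mem hb))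
    (h.comm a (hY ha) b (hY hb))
  calc a * b = (a * b * a⁻¹ * b⁻¹) * (b * a) := by group
    _ = b * a := by rw [h1, one_mul]

omit [Finite V] in
theorem y_pow (h : XS V s E z) {Y : Subgroup W} (hY : Y ≤ E) (hz : z ∉ Y) {a : W}
    (ha : a ∈ Y) : a ^ s = 1 :=
  inf_triv h hz (Y.pow_mem ha s) (h.pow a (hY ha))

omit [Finite W] in
theorem cm_one {a b : W} : a * b * a⁻¹ * b⁻¹ = 1 ↔ a * b = b * a := by
  rw [mul_inv_eq_one, mul_inv_eq_iff_eq_mul]

omit [Finite W] [Finite V] in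
/-- the commutator with a fixed `g` as a homomorphism `Y → ⟨z⟩` -/
theorem exists_phi (h : XS V s E z) {Y : Subgroup W} (hY : Y ≤ E) {g : W} (hg : g ∈ E) :
    ∃ φ : Y →* zpowers z, ∀ y : Y, (φ y : W) = g * y * g⁻¹ * (y : W)⁻¹ :=
  ⟨MonoidHom.mk' (fun y : Y => ⟨g * y * g⁻¹ * (y : W)⁻¹, h.comm g hg y (hY y.2)⟩)
    (fun b b' => Subtype.ext (cm_right h hg (hY b.2) (hY b'.2))), fun _ => rfl⟩

end KL

open KL in
/-- `|Y| |C_E(Y)| = |E|` for `Y ≤ E` avoiding `z` -/
theorem key_cent {s : ℕ} {E : Subgroup W} {z : W} (h : XS V s E z) (Y : Subgroup W) (hY : Y ≤ E)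
    (hz : z ∉ Y) :
    Nat.card Y * Nat.card (E ⊓ centralizer (Y : Set W) : Subgroup W) = Nat.card E := by
  obtain ⟨ι, hι⟩ := exists_emb h.prime z h.ord
  choose φ hφ using fun g : E => exists_phi h hY g.2
  let β : E →* Y →* ℂˣ := MonoidHom.mk' (fun g => ι.comp (φ g)) (fun a a' => by
    ext y
    have h1 : φ (a * a') y = φ a y * φ a' y := Subtype.ext (by
      rw [Subgroup.coe_mul, hφ, hφ, hφ]
      exact cm_left h a.2 a'.2 (hY y.2))
    simp [h1])
  have hβ : ∀ (g : E) (y : Y), β g y = 1 ↔ (g : W) * y = y * g := fun g y => by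
    show ι (φ g y) = 1 ↔ _
    rw [map_eq_one_iff ι hι, Subtype.ext_iff, hφ]
    exact cm_one
  have h1 := pair_index β fun b hb => by
    have h2 := h.omega b (hY b.2) (fun a ha => ((hβ ⟨a, ha⟩ b).1 (hb _)).symm)
      (y_pow h hY hz b.2)
    exact Subtype.ext (inf_triv h hz b.2 h2)
  have h2 : β.ker = (E ⊓ centralizer (Y : Set W)).subgroupOf E := by
    ext g
    rw [MonoidHom.mem_ker, mem_subgroupOf, mem_inf, mem_centralizer_iff]
    constructor
    · intro hg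
      exact ⟨g.2, fun y hy => ((hβ g ⟨y, hy⟩).1 (by rw [hg]; rfl)).symm⟩
    · intro hg
      ext y
      rw [(hβ g y).2 (hg.2 y y.2).symm]
      rfl
  have h3 := β.ker.card_mul_index
  rw [h1, h2, Nat.card_congr (subgroupOfEquivOfLe inf_le_left).toEquiv] at h3
  rw [mul_comm, h3]

namespace KL
variable {s : ℕ} {E : Subgroup W} {z : W}

theorem step (h : XS V s E z) (Y : Subgroup W) (hY : Y ≤ E) (hz : z ∉ Y) (h0 : Y ≠ ⊥) :
    ∃ Y0 : Subgroup W, Y0 ≤ Y ∧ Nat.card Y = s * Nat.card Y0 ∧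
      Nat.card (fx V Y0) = Nat.card (fx V Y) ^ s := by
  obtain ⟨y1, hy1, hy11⟩ := (bot_or_exists_ne_one Y).resolve_left h0
  obtain ⟨g, hg, hgy⟩ : ∃ g ∈ E, y1 * g ≠ g * y1 := by
    by_contra hno
    push Not at hno
    exact hy11 (inf_triv h hz hy1 (h.omega y1 (hY hy1) hno (y_pow h hY hz hy1)))
  obtain ⟨φ, hφ⟩ := exists_phi h hY hg
  have hcz : Nat.card (zpowers z) = s := by rw [Nat.card_zpowers, h.ord]
  haveI : Fact (Nat.card (zpowers z)).Prime := ⟨by rw [hcz]; exact h.prime⟩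
  have hr : φ.range = ⊤ := by
    refine φ.range.eq_bot_or_eq_top_of_prime_card.resolve_left fun h1 => hgy ?_
    have h2 : φ ⟨y1, hy1⟩ ∈ φ.range := ⟨_, rfl⟩
    rw [h1, mem_bot, Subtype.ext_iff, hφ] at h2
    exact (cm_one.1 h2).symm
  have hker : ∀ y : Y, φ y = 1 ↔ g * y = y * g := fun y => by
    rw [Subtype.ext_iff, hφ]; exact cm_one
  let Y0 : Subgroup W := Y ⊓ centralizer ({g} : Set W)
  have hY0 : ∀ a, a ∈ Y0 ↔ a ∈ Y ∧ g * a = a * g := fun a => by
    simp only [Y0, mem_inf, mem_centralizer_iff, Set.mem_singleton_iff, forall_eq]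
  have hk : φ.ker = Y0.subgroupOf Y := by
    ext a
    rw [MonoidHom.mem_ker, mem_subgroupOf, hY0, hker]
    exact ⟨fun ha => ⟨a.2, ha⟩, fun ha => ha.2⟩
  refine ⟨Y0, inf_le_left, ?_, ?_⟩
  · have h3 := φ.ker.card_mul_index
    rw [index_ker, hr, card_top, hcz, hk,
      Nat.card_congr (subgroupOfEquivOfLe inf_le_left).toEquiv] at h3
    rw [mul_comm, h3]
  obtain ⟨y, hy⟩ : (⟨z, mem_zpowers z⟩ : zpowers z) ∈ φ.range := by rw [hr]; trivial
  have hyz : g * y * g⁻¹ * (y : W)⁻¹ = z := by rw [← hφ, hy]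
  have hyc : (y : W) * z = z * y := h.cen _ (hY y.2)
  have hgz : g * z = z * g := h.cen _ hg
  have hz1 : z ^ s = 1 := by rw [← h.ord]; exact pow_orderOf_eq_one z
  have hgy1 : g * y = y * z * g := by
    rw [hyc, ← hyz]; group
  have hgm : ∀ k : ℕ, g ^ k * y = y * z ^ k * g ^ k := fun k => by
    induction k with
    | zero => simp
    | succ n ih =>
      have hc : g * z ^ n = z ^ n * g := (Commute.pow_right hgz n).eq
      calc g ^ (n + 1) * y = g * (g ^ n * y) := by rw [pow_succ', mul_assoc]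
        _ = (g * y) * z ^ n * g ^ n := by rw [ih]; group
        _ = y * z * (g * z ^ n) * g ^ n := by rw [hgy1]; group
        _ = y * z ^ (n + 1) * g ^ (n + 1) := by rw [hc]; group
  have hinv : ∀ a : W, (∀ b ∈ Y0, b * a = a * b) → ∀ u ∈ fx V Y0, a • u ∈ fx V Y0 :=
    fun a ha u hu b hb => by rw [← mul_smul, ha b hb, mul_smul, hu b hb]
  have hss := ss_card h.prime h.cop (fx V Y0) (y : W) z (y_pow h hY hz y.2) hz1 hyc
    (hinv _ fun b hb => y_comm h hY hz hb.1 y.2)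
    (hinv _ fun b hb => h.cen b (hY hb.1)) (fun u _ => h.fpf u)
  have hfx : fx V Y0 ⊓ fx1 V (y : W) = fx V Y := by
    ext v
    constructor
    · rintro ⟨hv0, hv1⟩ a ha
      obtain ⟨m, hm⟩ := (mem_powers_iff_mem_zpowers.2 (φ ⟨a, ha⟩).2)
      have h4 : φ (⟨a, ha⟩ * (y ^ m)⁻¹) = 1 := by
        rw [map_mul, map_inv, map_pow, hy, mul_inv_eq_one]
        exact Subtype.ext hm.symm
      have h5 : a * ((y : W) ^ m)⁻¹ ∈ Y0 :=
        (hY0 _).2 ⟨Y.mul_mem ha (Y.inv_mem (Y.pow_mem y.2 m)), (hker _).1 h4⟩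
      have h6 : a = a * ((y : W) ^ m)⁻¹ * (y : W) ^ m := by group
      rw [h6, mul_smul, A2.pow_fix _ _ hv1 m]
      exact hv0 _ h5
    · intro hv
      exact ⟨fun a ha => hv a ha.1, hv y y.2⟩
  have hcard : ∀ k ∈ Finset.range s,
      Nat.card (fx V Y0 ⊓ fx1 V (y * z ^ k) : Subgroup V) = Nat.card (fx V Y) := fun k _ => by
    rw [← hfx]
    have hgk : ∀ b ∈ Y0, b * g ^ k = g ^ k * b := fun b hb =>
      (Commute.pow_right ((hY0 b).1 hb).2.symm k).eq
    have hgk' : ∀ b ∈ Y0, b * (g ^ k)⁻¹ = (g ^ k)⁻¹ * b := fun b hb =>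
      (Commute.inv_right (hgk b hb)).eq
    refine Nat.card_congr
      { toFun := fun v => ⟨(g ^ k)⁻¹ • (v : V), hinv _ hgk' _ v.2.1, ?_⟩
        invFun := fun v => ⟨g ^ k • (v : V), hinv _ hgk _ v.2.1, ?_⟩
        left_inv := fun v => Subtype.ext (smul_inv_smul _ _)
        right_inv := fun v => Subtype.ext (inv_smul_smul _ _) }
    · have h7 : ((y : W) * z ^ k) • (v : V) = v := v.2.2
      show (y : W) • (g ^ k)⁻¹ • (v : V) = (g ^ k)⁻¹ • (v : V)
      have h8 : (y : W) * (g ^ k)⁻¹ = (g ^ k)⁻¹ * (y * z ^ k) := by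
        rw [eq_inv_mul_iff_mul_eq, ← mul_assoc, hgm]; group
      rw [← mul_smul, h8, mul_smul, h7]
    · have h7 : (y : W) • (v : V) = v := v.2.2
      show ((y : W) * z ^ k) • g ^ k • (v : V) = g ^ k • (v : V)
      rw [← mul_smul, ← hgm, mul_smul, h7]
  rw [hss, Finset.prod_congr rfl hcard, Finset.prod_const, Finset.card_range]

end KL

/-- `|C_V(Y)| ^ |Y| = |V|` for `Y ≤ E` avoiding `z` -/
theorem key_fx {s : ℕ} {E : Subgroup W} {z : W} (h : XS V s E z) (Y : Subgroup W) (hY : Y ≤ E)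
    (hz : z ∉ Y) : Nat.card (fx V Y) ^ Nat.card Y = Nat.card V := by
  induction hn : Nat.card Y using Nat.strong_induction_on generalizing Y with
  | _ n ih =>
    by_cases h0 : Y = ⊥
    · subst h0
      have h1 : fx V (⊥ : Subgroup W) = ⊤ := by
        rw [eq_top_iff]
        intro v _ y hy
        rw [mem_bot.1 hy, one_smul]
      rw [← hn, h1, card_bot, card_top, pow_one]
    · obtain ⟨Y0, hle, h1, h2⟩ := KL.step h Y hY hz h0
      have hpos : 0 < Nat.card Y0 := Nat.card_pos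
      have hlt : Nat.card Y0 < n := by
        rw [← hn, h1]
        have := h.prime.two_le
        nlinarith
      have h3 := ih _ hlt Y0 (hle.trans hY) (fun hh => hz (hle hh)) rfl
      rw [← hn, h1, pow_mul, ← h2, h3]

end H38.Drg
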