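import Mathlib
import Cfsg.Agent.Lib.Drg.Defs
import Cfsg.Agent.Lib.Drg.A0
import Cfsg.Agent.Lib.Drg.KL

namespace H38.Drg
open Subgroup MulAction

variable {W V : Type*} [Group W] [Finite W] [CommGroup V] [Finite V] [MulDistribMulAction W V]

namespace A7

theorem dbl {α β : Type*} [Finite α] [Finite β] (S : Set α) (T : Set β) (r : α → β → Prop)
    (m n : ℕ) (hm : ∀ a ∈ S, m ≤ {b | b ∈ T ∧ r a b}.ncard)
    (hn : ∀ b ∈ T, {a | a ∈ S ∧ r a b}.ncard ≤ n) : S.ncard * m ≤ T.ncard * n := by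
  classical
  have := Fintype.ofFinite α
  have := Fintype.ofFinite β
  rw [Set.ncard_eq_toFinset_card' S, Set.ncard_eq_toFinset_card' T]
  refine Finset.card_mul_le_card_mul r (fun a ha => ?_) (fun b hb => ?_)
  · refine (hm a (Set.mem_toFinset.1 ha)).trans (le_of_eq ?_)
    rw [Set.ncard_eq_toFinset_card']
    congr 1
    ext b
    simp [Finset.bipartiteAbove]
  · refine le_trans (le_of_eq ?_) (hn b (Set.mem_toFinset.1 hb))
    rw [Set.ncard_eq_toFinset_card']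
    congr 1
    ext a
    simp [Finset.bipartiteBelow]

theorem ncard_diff_one {G : Type*} [Group G] [Finite G] (H : Subgroup G) :
    ((H : Set G) \ {1}).ncard = Nat.card H - 1 := by
  rw [Set.ncard_sdiff_singleton_of_mem H.one_mem, ← Nat.card_coe_set_eq]
  rfl

theorem two_mul_le (j : ℕ) : 2 * j + 1 ≤ 3 ^ j := by
  induction j with
  | zero => simp
  | succ n ih => rw [pow_succ]; omega

theorem arith {r s j w w1 n : ℕ} (hs : 3 ≤ s) (hw : s ≤ w) (hw1 : w1 = w ^ s ^ j)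
    (hn : w1 ^ s = n) (h : r * (s - 1) ≤ s ^ (j + 1) * (w1 - 1)) : (r + 1) ^ 2 ≤ n := by
  have hw1p : 1 ≤ w1 := by rw [hw1]; exact Nat.one_le_pow _ _ (by omega)
  have hc : s ≤ s ^ (j + 1) := Nat.le_self_pow (by omega) s
  have h1 : (r + 1) * (s - 1) ≤ s ^ (j + 1) * w1 := by
    obtain ⟨u, rfl⟩ : ∃ u, w1 = u + 1 := ⟨w1 - 1, by omega⟩
    rw [Nat.add_sub_cancel] at h
    have : s - 1 ≤ s ^ (j + 1) := by omega
    nlinarith
  have h2 : s ^ (2 * j + 1) ≤ w1 := by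
    rw [hw1]
    calc s ^ (2 * j + 1) ≤ w ^ (2 * j + 1) := Nat.pow_le_pow_left hw _
      _ ≤ w ^ s ^ j := Nat.pow_le_pow_right (by omega)
          ((two_mul_le j).trans (Nat.pow_le_pow_left hs j))
  have h3 : s ≤ (s - 1) ^ 2 := by
    obtain ⟨u, rfl⟩ : ∃ u, s = u + 3 := ⟨s - 3, by omega⟩
    rw [show u + 3 - 1 = u + 2 by omega]
    nlinarith
  have h4 : (s ^ (j + 1)) ^ 2 ≤ (s - 1) ^ 2 * w1 := by
    calc (s ^ (j + 1)) ^ 2 = s * s ^ (2 * j + 1) := by ring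
      _ ≤ (s - 1) ^ 2 * w1 := Nat.mul_le_mul h3 h2
  have h5 : (r + 1) ^ 2 * (s - 1) ^ 2 ≤ w1 ^ 3 * (s - 1) ^ 2 := by
    calc (r + 1) ^ 2 * (s - 1) ^ 2 = ((r + 1) * (s - 1)) ^ 2 := by ring
      _ ≤ (s ^ (j + 1) * w1) ^ 2 := Nat.pow_le_pow_left h1 2
      _ = (s ^ (j + 1)) ^ 2 * w1 ^ 2 := by ring
      _ ≤ (s - 1) ^ 2 * w1 * w1 ^ 2 := Nat.mul_le_mul_right _ h4
      _ = w1 ^ 3 * (s - 1) ^ 2 := by ring
  have h6 : (r + 1) ^ 2 ≤ w1 ^ 3 :=
    Nat.le_of_mul_le_mul_right h5 (Nat.pow_pos (by omega))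
  rw [← hn]
  exact h6.trans (Nat.pow_le_pow_right hw1p hs)

end A7

open A7 in
/-- symplectic type, odd prime -/
theorem odd_case {K : Subgroup W} (h : Out V K) {s : ℕ} {E : Subgroup W} [E.Normal] {z : W}
    (hx : XS V s E z) (hEK : E ≤ K) (hs : s ≠ 2) (hns : NS V E) :
    (K.index + 1) ^ 2 ≤ Nat.card V := by
  have hp := hx.prime
  have := Fact.mk hp
  have hs3 : 3 ≤ s := by have := hp.two_le; omega
  have hz1 : z ^ s = 1 := by rw [← hx.ord]; exact pow_orderOf_eq_one z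
  have hzE : ∀ v : V, v ≠ 1 → z ∉ (E ⊓ stabilizer W v : Subgroup W) := fun v hv hz =>
    hv (hx.fpf v hz.2)
  have hpow : ∀ v : V, v ≠ 1 → ∃ j, Nat.card (E ⊓ stabilizer W v : Subgroup W) = s ^ j :=
    fun v hv => IsPGroup.iff_card.1 fun g => ⟨1, Subtype.ext (by
      rw [pow_one]; exact KL.y_pow hx inf_le_left (hzE v hv) g.2)⟩
  have hge : ∀ v : V, v ≠ 1 → (E ⊓ stabilizer W v : Subgroup W) ≠ ⊥ →
      s ≤ Nat.card (E ⊓ stabilizer W v : Subgroup W) := fun v hv hb => by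
    obtain ⟨j, hj⟩ := hpow v hv
    rw [hj]
    refine Nat.le_self_pow ?_ s
    rintro rfl
    exact hb (card_eq_one.1 (by rw [hj, pow_zero]))
  obtain ⟨y1, hy1E, hy11, v1, hv11, hy1v⟩ := hns
  obtain ⟨v0, hv0, hmax⟩ := Set.exists_max_image {v : V | v ≠ 1}
    (fun v => Nat.card (E ⊓ stabilizer W v : Subgroup W)) (Set.toFinite _) ⟨v1, hv11⟩
  have hb1 : (E ⊓ stabilizer W v1 : Subgroup W) ≠ ⊥ := fun hb => by
    have : y1 ∈ (E ⊓ stabilizer W v1 : Subgroup W) := ⟨hy1E, hy1v⟩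
    rw [hb] at this
    exact hy11 this
  have hc1 : s ≤ Nat.card (E ⊓ stabilizer W v0 : Subgroup W) :=
    (hge v1 hv11 hb1).trans (hmax v1 hv11)
  obtain ⟨j', hj'⟩ := hpow v0 hv0
  obtain ⟨j, rfl⟩ : ∃ j, j' = j + 1 := by
    rcases j' with _ | j
    · rw [hj', pow_zero] at hc1; omega
    · exact ⟨j, rfl⟩
  set Y0 : Subgroup W := E ⊓ stabilizer W v0 with hY0
  set w := Nat.card (fx V Y0) with hw
  have hwn : w ^ s ^ (j + 1) = Nat.card V := by
    rw [← hj']; exact key_fx hx Y0 inf_le_left (hzE v0 hv0)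
  have hsw : s ≤ w := by
    have hmem : ∀ i : ℕ, z ^ i • v0 ∈ fx V Y0 := fun i y hy => by
      have h1 : y * z ^ i = z ^ i * y := (Commute.pow_right (hx.cen y hy.1) i).eq
      have h2 : y • v0 = v0 := hy.2
      rw [← mul_smul, h1, mul_smul, h2]
    have hlt : ∀ a b : ℕ, a < b → b < s → z ^ a • v0 ≠ z ^ b • v0 := fun a b hab hb he => by
      obtain ⟨d, rfl⟩ := Nat.exists_eq_add_of_lt hab
      rw [add_assoc, pow_add, mul_smul, smul_left_cancel_iff] at he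
      exact hv0 (A2.pow_fpf hp ⊤ z hz1 (fun u _ => hx.fpf u)
        (Nat.not_dvd_of_pos_of_lt (Nat.succ_pos d) (by omega)) v0 trivial he.symm)
    have h1 := Nat.card_le_card_of_injective (fun i : Fin s => (⟨z ^ (i : ℕ) • v0, hmem i⟩ : fx V Y0))
      (fun a b hab => by
        have h2 : z ^ (a : ℕ) • v0 = z ^ (b : ℕ) • v0 := congrArg Subtype.val hab
        rcases lt_trichotomy (a : ℕ) b with h3 | h3 | h3
        · exact absurd h2 (hlt _ _ h3 b.2)
        · exact Fin.ext h3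
        · exact absurd h2.symm (hlt _ _ h3 a.2))
    simpa using h1
  have hw1n : (w ^ s ^ j) ^ s = Nat.card V := by rw [← pow_mul, ← pow_succ, hwn]
  have hfx1 : ∀ y ∈ E, y ≠ 1 → ∀ v : V, v ≠ 1 → y • v = v → Nat.card (fx1 V y) = w ^ s ^ j :=
    fun y hy hy1 v hv hyv => by
      have hle : zpowers y ≤ E ⊓ stabilizer W v := zpowers_le.2 ⟨hy, hyv⟩
      have h1 := key_fx hx (zpowers y) (hle.trans inf_le_left) (fun hh => hzE v hv (hle hh))
      have h2 : orderOf y = s :=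
        orderOf_eq_prime (KL.y_pow hx inf_le_left (hzE v hv) ⟨hy, hyv⟩) hy1
      have h3 : fx V (zpowers y) = fx1 V y := by
        ext u
        refine ⟨fun hu => hu y (mem_zpowers y), fun hu a ha => ?_⟩
        exact (zpowers_le.2 (show y ∈ stabilizer W u from hu) : _ ≤ stabilizer W u) ha
      rw [Nat.card_zpowers, h2, h3, ← hw1n] at h1
      exact Nat.pow_left_injective hp.ne_zero h1
  let X : Set V := {v | v ≠ 1 ∧ ∃ y ∈ E, y ≠ 1 ∧ y • v = v}
  have hX : ∀ g : W, ∀ u ∈ X, g • u ∈ X := by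
    rintro g u ⟨hu, y, hy, hy1, hyu⟩
    refine ⟨fun hh => hu (by rw [← inv_smul_smul g u, hh, smul_one]), g * y * g⁻¹,
      Normal.conj_mem inferInstance y hy g, fun hh => hy1 (by simpa using hh), ?_⟩
    rw [mul_smul, inv_smul_smul, mul_smul, hyu]
  have hv0X : v0 ∈ X := by
    have hb : Y0 ≠ ⊥ := fun hb => by rw [hb, card_bot] at hc1; omega
    obtain ⟨y, hy, hy1⟩ := (bot_or_exists_ne_one Y0).resolve_left hb
    exact ⟨hv0, y, hy.1, hy1, hy.2⟩
  have horb := orb_le h E hEK hv0 X hX hv0X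
  have hcount : X.ncard * (s - 1) ≤ (E : Set W).ncard * (w ^ s ^ j - 1) := by
    refine dbl X (E : Set W) (fun v y => y ≠ 1 ∧ y • v = v) _ _ ?_ ?_
    · rintro v ⟨hv, y, hy, hy1, hyv⟩
      have hb : (E ⊓ stabilizer W v : Subgroup W) ≠ ⊥ := fun hb => by
        have : y ∈ (E ⊓ stabilizer W v : Subgroup W) := ⟨hy, hyv⟩
        rw [hb] at this
        exact hy1 this
      have h1 : {b | b ∈ (E : Set W) ∧ b ≠ 1 ∧ b • v = v} =
          ((E ⊓ stabilizer W v : Subgroup W) : Set W) \ {1} := by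
        ext b
        exact ⟨fun hb => ⟨⟨hb.1, hb.2.2⟩, hb.2.1⟩, fun hb => ⟨hb.1.1, hb.2, hb.1.2⟩⟩
      rw [h1, ncard_diff_one]
      have := hge v hv hb
      omega
    · intro y hy
      rcases Set.eq_empty_or_nonempty {a | a ∈ X ∧ y ≠ 1 ∧ y • a = a} with h0 | ⟨v, hv⟩
      · rw [h0]; simp
      · rw [← hfx1 y hy hv.2.1 v hv.1.1 hv.2.2, ← ncard_diff_one]
        exact Set.ncard_le_ncard (fun a ha => ⟨ha.2.2, ha.1.1⟩)
  have hE : (E : Set W).ncard = Nat.card E := (Nat.card_coe_set_eq (E : Set W)).symm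
  rw [hE] at hcount
  rw [← hY0, hj'] at horb
  refine arith hs3 hsw rfl hw1n ?_
  have hEp : 0 < Nat.card E := Nat.card_pos
  refine Nat.le_of_mul_le_mul_left ?_ hEp
  calc Nat.card E * (K.index * (s - 1)) = K.index * Nat.card E * (s - 1) := by ring
    _ ≤ X.ncard * s ^ (j + 1) * (s - 1) := Nat.mul_le_mul_right _ horb
    _ = X.ncard * (s - 1) * s ^ (j + 1) := by ring
    _ ≤ Nat.card E * (w ^ s ^ j - 1) * s ^ (j + 1) := Nat.mul_le_mul_right _ hcount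
    _ = _ := by ring

end H38.Drg
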