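import Mathlib
import Cfsg.Agent.Lib.Drg.Defs
import Cfsg.Agent.Lib.Drg.A0
import Cfsg.Agent.Lib.Drg.A7

namespace H38.Drg
open Subgroup MulAction

variable {W V : Type*} [Group W] [Finite W] [CommGroup V] [Finite V] [MulDistribMulAction W V]

namespace A3

theorem arith (u : ℕ) (hu : 1 ≤ u) (k : ℕ) (hk : 2 ≤ k) : (2 + k * u) ^ 2 ≤ 4 * (1 + u) ^ k := by
  induction k, hk using Nat.le_induction with
  | base => exact le_of_eq (by ring)
  | succ k hk ih =>
    have h1 : 2 * u ≤ k * u := Nat.mul_le_mul_right u hk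
    obtain ⟨a, ha⟩ : ∃ a, a = 2 + k * u := ⟨_, rfl⟩
    have h2 : 2 + (k + 1) * u = a + u := by rw [ha]; ring
    have h3 : 4 ≤ a := by omega
    have h4 : u ≤ 2 * a := by omega
    have h5 : 2 * a + u ≤ a ^ 2 := by nlinarith
    rw [h2, pow_succ (1 + u) k, ← mul_assoc]
    rw [← ha] at ih
    calc (a + u) ^ 2 = a ^ 2 + u * (2 * a + u) := by ring
      _ ≤ a ^ 2 + u * a ^ 2 := Nat.add_le_add_left (Nat.mul_le_mul_left u h5) _
      _ = a ^ 2 * (1 + u) := by ring
      _ ≤ _ := Nat.mul_le_mul_right _ ih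

/-- commuting subgroups with pairwise trivial common fixed vectors are independent -/
theorem indep {ι : Type*} [Finite ι] (A : Subgroup W) (hcomm : ∀ a ∈ A, ∀ b ∈ A, a * b = b * a)
    (hcop : Nat.Coprime (Nat.card A) (Nat.card V)) (B : ι → Subgroup W) (hB : ∀ i, B i ≤ A)
    (hd : ∀ i j, i ≠ j → ∀ u : V, u ∈ fx V (B i) → u ∈ fx V (B j) → u = 1) (w : ℕ)
    (hw : ∀ i, Nat.card (fx V (B i)) = w) : w ^ Nat.card ι ≤ Nat.card V := by
  classical
  have := Fintype.ofFinite ι
  let Φ : (∀ i, fx V (B i)) →* V :=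
    { toFun := fun f => ∏ i, (f i : V)
      map_one' := by simp
      map_mul' := fun f g => by simp [Finset.prod_mul_distrib] }
  have hinj : Function.Injective Φ := by
    rw [injective_iff_map_eq_one]
    intro f hf
    have hf' : ∏ i, (f i : V) = 1 := hf
    funext j
    have := Fintype.ofFinite (B j)
    have h1 : ∏ b : B j, (b : W) • ∏ i, (f i : V) = 1 := by rw [hf']; simp
    have h2 : ∀ b ∈ (Finset.univ : Finset (B j)), (b : W) • ∏ i, (f i : V) =
        ∏ i, (b : W) • (f i : V) := fun b _ =>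
      map_prod (MulDistribMulAction.toMonoidHom V (b : W)) _ _
    rw [Finset.prod_congr rfl h2, Finset.prod_comm,
      Finset.prod_eq_single_of_mem j (Finset.mem_univ _)] at h1
    · have h3 : ∀ b ∈ (Finset.univ : Finset (B j)), (b : W) • (f j : V) = f j := fun b _ =>
        (f j).2 b b.2
      rw [Finset.prod_congr rfl h3, Finset.prod_const, Finset.card_univ,
        ← Nat.card_eq_fintype_card] at h1
      ext
      exact A2.eq_one_of_pow (Nat.Coprime.coprime_dvd_left (card_dvd_of_le (hB j)) hcop) h1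
    · intro i _ hij
      have hsm : ∀ c : W, c • ∏ b : B j, (b : W) • (f i : V) =
          ∏ b : B j, c • (b : W) • (f i : V) := fun c =>
        map_prod (MulDistribMulAction.toMonoidHom V c) _ _
      refine hd i j hij _ (fun c hc => ?_) (fun c hc => ?_)
      · rw [hsm]
        refine Finset.prod_congr rfl fun b _ => ?_
        rw [← mul_smul, hcomm c (hB i hc) b (hB j b.2), mul_smul, (f i).2 c hc]
      · rw [hsm]
        refine Fintype.prod_equiv (Equiv.mulLeft (⟨c, hc⟩ : B j)) _ _ fun b => ?_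
        rw [← mul_smul]
        rfl
  have h4 := Nat.card_le_card_of_injective Φ hinj
  rw [Nat.card_pi, Finset.prod_congr rfl (fun i _ => hw i), Finset.prod_const, Finset.card_univ,
    ← Nat.card_eq_fintype_card] at h4
  exact h4

end A3

/-- abelian normal subgroup which is not semiregular -/
theorem ab_case {K : Subgroup W} (h : Out V K) (A : Subgroup W) [A.Normal] (hAK : A ≤ K)
    (hcomm : ∀ a ∈ A, ∀ b ∈ A, a * b = b * a) (hcop : Nat.Coprime (Nat.card A) (Nat.card V))
    (hns : NS V A) : (K.index + 1) ^ 2 ≤ Nat.card V := by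
  obtain ⟨y1, hy1A, hy11, v1, hv11, hy1v⟩ := hns
  obtain ⟨v, hv, hmax⟩ := Set.exists_max_image {v : V | v ≠ 1}
    (fun v => Nat.card (A ⊓ stabilizer W v : Subgroup W)) (Set.toFinite _) ⟨v1, hv11⟩
  have hv' : v ≠ 1 := hv
  set B : Subgroup W := A ⊓ stabilizer W v with hBdef
  have hB0 : B ≠ ⊥ := fun hb => by
    have h1 := hmax v1 hv11
    have h2 : (A ⊓ stabilizer W v1 : Subgroup W) = ⊥ := by
      simp only [hb, card_bot] at h1
      exact card_eq_one.1 (le_antisymm h1 Nat.card_pos)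
    have h3 : y1 ∈ (A ⊓ stabilizer W v1 : Subgroup W) := ⟨hy1A, hy1v⟩
    rw [h2] at h3
    exact hy11 h3
  by_cases hN : B.Normal
  · exact inv_fx h mul_comm B hB0 hv' fun y hy => hy.2
  let Bf : W → Subgroup W := fun g => A ⊓ stabilizer W (g • v)
  have hBf1 : Bf 1 = B := by simp [Bf, hBdef]
  have hconj : ∀ g t a : W, a ∈ Bf g → t * a * t⁻¹ ∈ Bf (t * g) := fun g t a ha => by
    refine ⟨Normal.conj_mem inferInstance a ha.1 t, ?_⟩
    have h1 : a • g • v = g • v := ha.2
    show (t * a * t⁻¹) • (t * g) • v = (t * g) • v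
    rw [mul_smul t g, mul_smul, inv_smul_smul, mul_smul, h1]
  have hne : ∀ (g : W) (u : V), u ≠ 1 → g • u ≠ 1 := fun g u hu hh =>
    hu (by rw [← inv_smul_smul g u, hh, smul_one])
  have hcard : ∀ g, Nat.card B ≤ Nat.card (Bf g) := fun g =>
    Nat.card_le_card_of_injective
      (fun a : B => (⟨g * a * g⁻¹, by
        have h1 := hconj 1 g a (by rw [hBf1]; exact a.2)
        rwa [mul_one] at h1⟩ : Bf g)) (fun a b hab => by
        have h1 : g * (a : W) * g⁻¹ = g * b * g⁻¹ := congrArg Subtype.val hab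
        exact Subtype.ext (by simpa using h1))
  have hfx : ∀ (g t : W) (u : V), u ∈ fx V (Bf g) → t • u ∈ fx V (Bf (t * g)) :=
    fun g t u hu a ha => by
      have h1 := hconj (t * g) t⁻¹ a ha
      rw [inv_mul_cancel_left, inv_inv] at h1
      have h2 := hu _ h1
      rw [mul_smul, mul_smul, inv_smul_eq_iff] at h2
      exact h2
  set w := Nat.card (fx V B) with hw
  have hwg : ∀ g, Nat.card (fx V (Bf g)) = w := fun g => by
    refine Nat.card_congr
      { toFun := fun u => ⟨g⁻¹ • (u : V), ?_⟩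
        invFun := fun u => ⟨g • (u : V), ?_⟩
        left_inv := fun u => Subtype.ext (smul_inv_smul _ _)
        right_inv := fun u => Subtype.ext (inv_smul_smul _ _) }
    · have h1 := hfx g g⁻¹ u u.2
      rwa [inv_mul_cancel, hBf1] at h1
    · have h1 := hfx 1 g u (by rw [hBf1]; exact u.2)
      rwa [mul_one] at h1
  have heq : ∀ (g : W) (u : V), u ≠ 1 → u ∈ fx V (Bf g) → Bf g = A ⊓ stabilizer W u :=
    fun g u hu hug => eq_of_le_of_card_ge (fun a ha => ⟨ha.1, hug a ha⟩)
      ((hmax u hu).trans (hcard g))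
  have hk : 2 ≤ (Set.range Bf).ncard := by
    by_contra hlt
    apply hN
    have h1 : ∀ g, Bf g = B := fun g => by
      by_contra hg
      exact hlt ((Set.one_lt_ncard (Set.toFinite _)).2 ⟨Bf g, ⟨g, rfl⟩, B, ⟨1, hBf1⟩, hg⟩)
    refine ⟨fun a ha g => ?_⟩
    have h2 := hconj 1 g a (hBf1 ▸ ha)
    rwa [h1] at h2
  have hind : w ^ (Set.range Bf).ncard ≤ Nat.card V := by
    rw [← Nat.card_coe_set_eq]
    refine A3.indep A hcomm hcop (fun i : Set.range Bf => (i : Subgroup W)) ?_ ?_ w ?_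
    · rintro ⟨_, g, rfl⟩
      exact inf_le_left
    · rintro ⟨_, g, rfl⟩ ⟨_, g', rfl⟩ hij u hu hu'
      by_contra hu1
      exact hij (Subtype.ext ((heq g u hu1 hu).trans (heq g' u hu1 hu').symm))
    · rintro ⟨_, g, rfl⟩
      exact hwg g
  let X : Set V := {u | u ≠ 1 ∧ ∃ g, u ∈ fx V (Bf g)}
  have hX : ∀ t : W, ∀ u ∈ X, t • u ∈ X := by
    rintro t u ⟨hu, g, hg⟩
    exact ⟨hne t u hu, t * g, hfx g t u hg⟩
  have hvB : v ∈ fx V B := fun y hy => hy.2
  have hvX : v ∈ X := ⟨hv', 1, hBf1 ▸ hvB⟩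
  have horb := orb_le h A hAK hv' X hX hvX
  have hcount : X.ncard * 1 ≤ (Set.range Bf).ncard * (w - 1) := by
    refine A7.dbl X (Set.range Bf) (fun u C => u ∈ fx V C) _ _ ?_ ?_
    · rintro u ⟨_, g, hg⟩
      exact (Set.ncard_pos (Set.toFinite _)).2 ⟨Bf g, ⟨g, rfl⟩, hg⟩
    · rintro _ ⟨g, rfl⟩
      rw [← hwg g, ← A7.ncard_diff_one]
      exact Set.ncard_le_ncard (fun a ha => ⟨ha.2, ha.1.1⟩)
  have hw2 : 2 ≤ w := by
    have h1 : fx V B ≠ ⊥ := fun hb => by
      rw [hb] at hvB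
      exact hv' hvB
    exact (one_lt_card_iff_ne_bot _).2 h1
  have h2B : 2 * Nat.card B ≤ Nat.card A := by
    have hBA : B ≤ A := inf_le_left
    obtain ⟨c, hc⟩ := card_dvd_of_le hBA
    have hAp : 0 < Nat.card A := Nat.card_pos
    rcases c with _ | _ | c
    · omega
    · exfalso
      apply hN
      rw [eq_of_le_of_card_ge hBA (by omega)]
      infer_instance
    · rw [hc]; nlinarith
  have hBp : 0 < Nat.card B := Nat.card_pos
  have h2r : 2 * K.index ≤ (Set.range Bf).ncard * (w - 1) := by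
    refine Nat.le_of_mul_le_mul_right ?_ hBp
    calc 2 * K.index * Nat.card B = K.index * (2 * Nat.card B) := by ring
      _ ≤ K.index * Nat.card A := Nat.mul_le_mul_left _ h2B
      _ ≤ X.ncard * Nat.card B := horb
      _ ≤ _ := Nat.mul_le_mul_right _ (by omega)
  have h3 := A3.arith (w - 1) (by omega) _ hk
  rw [show 1 + (w - 1) = w by omega] at h3
  have h4 : (2 + 2 * K.index) ^ 2 ≤ (2 + (Set.range Bf).ncard * (w - 1)) ^ 2 :=
    Nat.pow_le_pow_left (by omega) 2
  have h5 : (2 + 2 * K.index) ^ 2 = 4 * (K.index + 1) ^ 2 := by ring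
  omega

end H38.Drg
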