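import Mathlib
import Cfsg.Agent.Lib.Drg.Defs
import Cfsg.Agent.Lib.Drg.A0
import Cfsg.Agent.Lib.PGroup.TwoCyclic

namespace H38.Drg
open Subgroup MulAction

namespace A5

theorem card_mul_le {G : Type*} [Group G] [Finite G] {A B P : Subgroup G} (hA : A ≤ P)
    (hB : B ≤ P) (h : Disjoint A B) : Nat.card A * Nat.card B ≤ Nat.card P := by
  rw [← Nat.card_prod]
  exact Nat.card_le_card_of_injective
    (fun g : A × B => (⟨g.1 * g.2, P.mul_mem (hA g.1.2) (hB g.2.2)⟩ : P))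
    fun a b e => mul_injective_of_disjoint h (congrArg Subtype.val e)

theorem ncard_le_mul {α β : Type*} [Finite α] [Finite β] (s : Set α) (f : α → Set β) (X : Set β)
    (n : ℕ) (hX : ∀ x ∈ X, ∃ a ∈ s, x ∈ f a) (h : ∀ a ∈ s, (f a).ncard ≤ n) :
    X.ncard ≤ s.ncard * n := by
  classical
  rw [Set.ncard_eq_toFinset_card s, Set.ncard_eq_toFinset_card X]
  refine (Finset.card_le_card (t := s.toFinite.toFinset.biUnion fun a => (f a).toFinite.toFinset)
    fun x hx => ?_).trans (Finset.card_biUnion_le_card_mul _ _ _ fun a ha => ?_)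
  · obtain ⟨a, ha, hx'⟩ := hX x (by simpa using hx)
    exact Finset.mem_biUnion.2 ⟨a, by simpa using ha, by simpa using hx'⟩
  · rw [← Set.ncard_eq_toFinset_card]
    exact h a (by simpa using ha)

theorem exists_invol {W : Type*} [Group W] {P : Subgroup W} (hP : IsPGroup 2 P) {x : W}
    (hx : x ∈ P) (h1 : x ≠ 1) : ∃ k : ℕ, x ^ k ≠ 1 ∧ x ^ k * x ^ k = 1 := by
  obtain ⟨k, hk⟩ := hP ⟨x, hx⟩
  obtain ⟨j, h2, h3⟩ := H5.exists_pow_not_mem_pow_mem (p := 2) (K := (⊥ : Subgroup W)) (k := k)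
    (fun e => h1 (mem_bot.1 e)) (mem_bot.2 (congrArg Subtype.val hk))
  exact ⟨2 ^ j, fun e => h2 (mem_bot.2 e), by rw [← pow_two]; exact mem_bot.1 h3⟩

end A5

variable {W V : Type*} [Group W] [Finite W] [CommGroup V] [Finite V] [MulDistribMulAction W V]

omit [Finite W] [Finite V] in
theorem A5.inverts {y : W} (h2 : y * y = 1) (hf : ∀ v : V, y • v = v → v = 1) (v : V) :
    y • v = v⁻¹ :=
  eq_inv_of_mul_eq_one_right (hf _ (by rw [smul_mul', ← mul_smul, h2, one_smul, mul_comm]))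

omit [Finite W] in
theorem A5.ncard_fx (y g : W) :
    ((fx1 V (g * y * g⁻¹) : Set V) \ {1}).ncard ≤ Nat.card (fx1 V y) - 1 := by
  have h1 : ((fx1 V y : Set V) \ {1}).ncard = Nat.card (fx1 V y) - 1 :=
    Set.ncard_diff_singleton_of_mem (one_mem _)
  rw [← h1]
  refine Set.ncard_le_ncard_of_injOn (fun u => g⁻¹ • u) (fun u hu => ⟨?_, fun e => hu.2 ?_⟩)
    (fun a _ b _ e => MulAction.injective g⁻¹ e)
  · have h2 : (g * y * g⁻¹) • u = u := hu.1
    show y • g⁻¹ • u = g⁻¹ • u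
    rw [mul_smul, mul_smul] at h2
    exact eq_inv_smul_iff.2 h2
  · have h2 : g⁻¹ • u = 1 := e
    rw [inv_smul_eq_iff, smul_one] at h2
    exact h2

open A5 in
/-- normal 2-subgroup with a cyclic subgroup of index 2 -/
theorem dih_case {K : Subgroup W} (h : Out V K) (P : Subgroup W) [P.Normal] (hPK : P ≤ K)
    (hP : IsPGroup 2 P) (hV : Odd (Nat.card V)) (c z : W) (hc : c ∈ P) (hz : z ∈ zpowers c)
    (hz2 : z * z = 1) (hzf : ∀ v : V, z • v = v → v = 1)
    (hi : Nat.card P = 2 * orderOf c) (hns : NS V P) : (K.index + 1) ^ 2 ≤ Nat.card V := by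
  have hN : P.Normal := inferInstance
  obtain ⟨y₀, hy₀, y₀1, v₀, v₀1, e₀⟩ := hns
  have hCP : zpowers c ≤ P := zpowers_le.2 hc
  have uniq : ∀ y : W, y * y = 1 → (∀ v : V, y • v = v → v = 1) → y = z := fun y h2 hf => by
    rw [← inv_mul_eq_one]
    exact h.faith _ fun v => by rw [mul_smul, inv_smul_eq_iff, inverts h2 hf, inverts hz2 hzf]
  have zc : ∀ g : W, g * z * g⁻¹ = z := fun g => by
    refine uniq _ (by rw [conj_mul, hz2, mul_one, mul_inv_cancel]) fun v hv => ?_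
    rw [mul_smul, mul_smul, ← eq_inv_smul_iff] at hv
    have := hzf _ hv
    rwa [inv_smul_eq_iff, smul_one] at this
  have z1 : z ≠ 1 := fun e => v₀1 (hzf v₀ (by rw [e, one_smul]))
  have inC : ∀ y ∈ zpowers c, y * y = 1 → y ≠ 1 → y = z := fun y hy h2 h1 => by
    by_contra hne
    exact H5.not_isCyclic_of_two_invol hz hy z1 h1 hne hz2 h2 inferInstance
  have pw : ∀ {x : W} {v : V} (k : ℕ), x • v = v → x ^ k • v = v := fun {x v} k e =>
    pow_mem (show x ∈ stabilizer W v from e) k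
  have st : ∀ v : V, v ≠ 1 → Nat.card (P ⊓ stabilizer W v : Subgroup W) ≤ 2 := fun v hv => by
    have h1 := card_mul_le (inf_le_left : P ⊓ stabilizer W v ≤ P) hCP
      (disjoint_def.2 fun {x} hx hx' => by
        by_contra x1
        obtain ⟨k, k1, k2⟩ := exists_invol hP hx.1 x1
        exact hv (hzf v (inC _ (pow_mem hx' k) k2 k1 ▸ pw k hx.2)))
    rw [hi, Nat.card_zpowers] at h1
    exact Nat.le_of_mul_le_mul_right h1 (orderOf_pos c)
  let Y : Set W := {y | y ∈ P ∧ y * y = 1 ∧ y ≠ 1 ∧ y ≠ z}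
  have Yne : Y.Nonempty := by
    obtain ⟨k, k1, k2⟩ := exists_invol hP hy₀ y₀1
    exact ⟨y₀ ^ k, pow_mem hy₀ k, k2, k1, fun e => v₀1 (hzf _ (e ▸ pw k e₀))⟩
  have Yc : Y.ncard ≤ orderOf c := by
    have h1 : Y ⊆ (P : Set W) \ zpowers c := fun y hy =>
      ⟨hy.1, fun e => hy.2.2.2 (inC y e hy.2.1 hy.2.2.1)⟩
    have h2 := Set.ncard_le_ncard h1
    rw [Set.ncard_diff hCP] at h2
    have h3 : (P : Set W).ncard = 2 * orderOf c := hi
    have h4 : (zpowers c : Set W).ncard = orderOf c := Nat.card_zpowers c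
    omega
  have Ycj : ∀ y ∈ Y, ∀ g : W, g * y * g⁻¹ ∈ Y := fun y hy g =>
    ⟨hN.conj_mem _ hy.1 g, by rw [conj_mul, hy.2.1, mul_one, mul_inv_cancel],
      fun e => hy.2.2.1 (conj_eq_one_iff.1 e), fun e => hy.2.2.2 (by
        rw [← zc g] at e
        exact mul_left_cancel (mul_right_cancel e))⟩
  obtain ⟨y, hy, hmin⟩ := Set.exists_min_image Y (fun y => Nat.card (fx1 V y)) Y.toFinite Yne
  have yz : y * z ∈ Y := by
    refine ⟨P.mul_mem hy.1 (hCP hz), ?_, fun e => hy.2.2.2 ?_, fun e => hy.2.2.1 ?_⟩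
    · calc y * z * (y * z) = y * z * y⁻¹ * (y * y) * z := by group
        _ = 1 := by rw [zc, hy.2.1, mul_one, hz2]
    · exact mul_right_cancel (e.trans hz2.symm)
    · exact mul_eq_right.1 e
  have hw : Nat.card (fx1 V y) ^ 2 ≤ Nat.card V := by
    have h1 := card_mul_le (le_top : fx1 V y ≤ ⊤) (le_top : fx1 V (y * z) ≤ ⊤)
      (disjoint_def.2 fun {u} h1 h2 => hzf u (by
        rw [mem_fx1] at h1 h2
        rw [mul_smul] at h2
        exact MulAction.injective y (h2.trans h1.symm)))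
    rw [card_top] at h1
    rw [pow_two]
    exact (Nat.mul_le_mul_left _ (hmin _ yz)).trans h1
  obtain ⟨v, hv, v1⟩ : ∃ v : V, y • v = v ∧ v ≠ 1 := by
    by_contra hn
    push Not at hn
    exact hy.2.2.2 (uniq y hy.2.1 hn)
  let X : Set V := {u | u ≠ 1 ∧ ∃ g : W, (g * y * g⁻¹) • u = u}
  have h1 := orb_le h P hPK v1 X (fun w u hu => ?_) ⟨v1, 1, by simpa using hv⟩
  · have h2 : X.ncard ≤ {y' | ∃ g : W, y' = g * y * g⁻¹}.ncard * (Nat.card (fx1 V y) - 1) := by
      refine ncard_le_mul _ (fun y' => (fx1 V y' : Set V) \ {1}) X _ ?_ ?_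
      · rintro u ⟨u1, g, e⟩
        exact ⟨_, ⟨g, rfl⟩, e, u1⟩
      · rintro _ ⟨g, rfl⟩
        exact ncard_fx y g
    have h3 : {y' | ∃ g : W, y' = g * y * g⁻¹}.ncard ≤ orderOf c := by
      refine (Set.ncard_le_ncard ?_).trans Yc
      rintro _ ⟨g, rfl⟩
      exact Ycj y hy g
    have h4 : K.index * (2 * orderOf c) ≤ (Nat.card (fx1 V y) - 1) * (2 * orderOf c) := by
      rw [← hi]
      refine h1.trans ((Nat.mul_le_mul (h2.trans (Nat.mul_le_mul_right _ h3)) (st v v1)).trans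
        (le_of_eq ?_))
      rw [hi]
      ring
    have h5 := Nat.le_of_mul_le_mul_right h4 (Nat.mul_pos two_pos (orderOf_pos c))
    have h6 : 0 < Nat.card (fx1 V y) := Nat.card_pos
    exact (Nat.pow_le_pow_left (by omega) 2).trans hw
  · obtain ⟨u1, g, e⟩ := hu
    refine ⟨fun e1 => u1 ?_, w * g, ?_⟩
    · rwa [← eq_inv_smul_iff, smul_one] at e1
    · rw [← mul_smul]
      conv_rhs => rw [← e, ← mul_smul]
      congr 1
      group

end H38.Drg
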