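import Mathlib
import Cfsg.Agent.Lib.Drg.Defs
import Cfsg.Agent.Lib.Drg.KL

namespace H38.Drg.A8a
open Subgroup MulAction

variable {W : Type*} [Group W] [Finite W]

theorem exists_ext (Y : Subgroup W) {x : W} (h2 : x * x = 1) (hc : x ∈ centralizer (Y : Set W))
    (hx : x ∉ Y) :
    ∃ Y' : Subgroup W, (∀ g, g ∈ Y' ↔ g ∈ Y ∨ g * x ∈ Y) ∧ Nat.card Y' = 2 * Nat.card Y := by
  have hc' : ∀ y ∈ Y, y * x = x * y := fun y hy => mem_centralizer_iff.1 hc y hy
  have hi : x⁻¹ = x := inv_eq_of_mul_eq_one_right h2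
  let Y' : Subgroup W :=
    { carrier := {g | g ∈ Y ∨ g * x ∈ Y}
      one_mem' := Or.inl Y.one_mem
      mul_mem' := by
        rintro a b (ha | ha) (hb | hb)
        · exact Or.inl (Y.mul_mem ha hb)
        · exact Or.inr (by rw [mul_assoc]; exact Y.mul_mem ha hb)
        · exact Or.inr (by rw [mul_assoc, hc' b hb, ← mul_assoc]; exact Y.mul_mem ha hb)
        · left
          have e : a * b = a * x * (b * x) := by
            rw [mul_assoc a x, ← hc' _ hb, mul_assoc b, h2, mul_one]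
          rw [e]
          exact Y.mul_mem ha hb
      inv_mem' := by
        rintro a (ha | ha)
        · exact Or.inl (Y.inv_mem ha)
        · right
          have e : x * a = a * x := by
            have := hc' _ ha
            rw [mul_assoc, h2, mul_one] at this
            rw [← mul_left_inj x, mul_assoc x, ← this, mul_assoc, h2, mul_one]
          have : a⁻¹ * x = (a * x)⁻¹ := by rw [← e, mul_inv_rev, hi]
          rw [this]
          exact Y.inv_mem ha }
  refine ⟨Y', fun _ => Iff.rfl, ?_⟩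
  have e : (Y' : Set W) = (Y : Set W) ∪ (fun g => g * x) ⁻¹' (Y : Set W) := rfl
  have e1 : Nat.card Y' = (Y' : Set W).ncard := rfl
  have e2 : Nat.card Y = (Y : Set W).ncard := rfl
  rw [e1, e, Set.ncard_union_eq, Set.ncard_preimage_of_injective_subset_range
    (mul_left_injective x) (by simp [(mul_right_surjective x).range_eq]), e2, two_mul]
  rw [Set.disjoint_left]
  intro g hg hg'
  exact hx ((Y.mul_mem_cancel_left hg).1 hg')

omit [Finite W] in
theorem ext_le {Y Y' E : Subgroup W} {x : W} (hY : Y ≤ E) (hx : x ∈ E)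
    (h : ∀ g, g ∈ Y' ↔ g ∈ Y ∨ g * x ∈ Y) : Y' ≤ E := fun g hg =>
  ((h g).1 hg).elim (fun h => hY h) fun h => (E.mul_mem_cancel_right hx).1 (hY h)

theorem easy {E Y : Subgroup W} {z : W} {k a : ℕ} (hk : Nat.card Y = 2 ^ k)
    (h : ∀ x ∈ E, x ∈ centralizer (Y : Set W) → x * x = 1 → x ∈ Y ∨ z * x ∈ Y) :
    2 * Set.ncard {x : W | x ∈ E ∧ x ∈ centralizer (Y : Set W) ∧ x * x = 1} ≤ 2 ^ k * (a + 4) := by
  have h1 : Set.ncard {x : W | x ∈ E ∧ x ∈ centralizer (Y : Set W) ∧ x * x = 1} ≤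
      ((Y : Set W) ∪ (fun g => z * g) ⁻¹' (Y : Set W)).ncard :=
    Set.ncard_le_ncard fun x hx => h x hx.1 hx.2.1 hx.2.2
  have h2 := Set.ncard_union_le (Y : Set W) ((fun g => z * g) ⁻¹' (Y : Set W))
  rw [Set.ncard_preimage_of_injective_subset_range (mul_right_injective z)
    (by simp [(mul_left_surjective z).range_eq])] at h2
  have e2 : (Y : Set W).ncard = 2 ^ k := hk
  rw [e2] at h2
  nlinarith [Nat.zero_le (2 ^ k * a)]

theorem step {E Y Y' : Subgroup W} {x : W} (h1 : x ∈ E) (h2 : x ∈ centralizer (Y : Set W))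
    (h3 : x * x = 1) (h : ∀ g, g ∈ Y' ↔ g ∈ Y ∨ g * x ∈ Y) :
    2 * Set.ncard {x : W | x ∈ E ∧ x ∈ centralizer (Y : Set W) ∧ x * x = 1} +
      Nat.card (E ⊓ centralizer (Y' : Set W) : Subgroup W) ≤
    2 * Set.ncard {x : W | x ∈ E ∧ x ∈ centralizer (Y' : Set W) ∧ x * x = 1} +
      Nat.card (E ⊓ centralizer (Y : Set W) : Subgroup W) := by
  have hc : ∀ g, g ∈ centralizer (Y' : Set W) ↔ g ∈ centralizer (Y : Set W) ∧ x * g = g * x := by
    intro g
    simp only [mem_centralizer_iff, SetLike.mem_coe]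
    refine ⟨fun hg => ⟨fun y hy => hg y ((h y).2 (Or.inl hy)), hg x ((h x).2 (Or.inr ?_))⟩,
      fun hg y hy => ((h y).1 hy).elim (hg.1 y) fun hy' => ?_⟩
    · rw [h3]; exact Y.one_mem
    · have := hg.1 _ hy'
      rw [mul_assoc, hg.2, ← mul_assoc, ← mul_assoc] at this
      exact mul_right_cancel this
  set B : Set W := {y | y ∈ E ∧ y ∈ centralizer (Y : Set W) ∧ y * y = 1 ∧ x * y ≠ y * x}
  have e1 : Set.ncard {x : W | x ∈ E ∧ x ∈ centralizer (Y : Set W) ∧ x * x = 1} ≤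
      Set.ncard {x : W | x ∈ E ∧ x ∈ centralizer (Y' : Set W) ∧ x * x = 1} + B.ncard := by
    refine le_trans (Set.ncard_le_ncard fun y hy => ?_) (Set.ncard_union_le _ _)
    by_cases e : x * y = y * x
    · exact Or.inl ⟨hy.1, (hc y).2 ⟨hy.2.1, e⟩, hy.2.2⟩
    · exact Or.inr ⟨hy.1, hy.2.1, hy.2.2, e⟩
  have e2 : (((E ⊓ centralizer (Y' : Set W) : Subgroup W) : Set W) ∪ (B ∪ (fun g => x * g) '' B)).ncard
      ≤ Nat.card (E ⊓ centralizer (Y : Set W) : Subgroup W) := by
    refine Set.ncard_le_ncard (t := ((E ⊓ centralizer (Y : Set W) : Subgroup W) : Set W)) ?_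
    rintro y (hy | hy | ⟨y, hy, rfl⟩)
    · exact ⟨hy.1, ((hc y).1 hy.2).1⟩
    · exact ⟨hy.1, hy.2.1⟩
    · exact ⟨E.mul_mem h1 hy.1, Subgroup.mul_mem _ h2 hy.2.1⟩
  rw [Set.ncard_union_eq, Set.ncard_union_eq, Set.ncard_image_of_injective _
    (mul_right_injective x)] at e2
  · have : ((E ⊓ centralizer (Y' : Set W) : Subgroup W) : Set W).ncard =
      Nat.card (E ⊓ centralizer (Y' : Set W) : Subgroup W) := rfl
    omega
  · rw [Set.disjoint_left]
    rintro _ hy ⟨y, hy', rfl⟩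
    apply hy'.2.2.2
    have := eq_inv_of_mul_eq_one_left hy.2.2.1
    rwa [mul_inv_rev, inv_eq_of_mul_eq_one_right h3, inv_eq_of_mul_eq_one_right hy'.2.2.1] at this
  · rw [Set.disjoint_left]
    rintro y hy (hy' | ⟨y, hy', rfl⟩)
    · exact hy'.2.2.2 ((hc y).1 hy.2).2
    · apply hy'.2.2.2
      have := ((hc _).1 hy.2).2
      rw [mul_assoc] at this
      exact mul_left_cancel this

end H38.Drg.A8a

namespace H38.Drg
open Subgroup MulAction

variable {W V : Type*} [Group W] [Finite W] [CommGroup V] [Finite V] [MulDistribMulAction W V]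

/-- count of the solutions of `x² = 1` in `C_E(Y)`; `2 ^ j` is the largest order of a subgroup of
`E` avoiding `z`, `|E| = t 4 ^ j`, `|Y| = 2 ^ k`, `j = k + m` -/
theorem inv_count {E : Subgroup W} {z : W} (hx : XS V 2 E z) (j t : ℕ)
    (hE : Nat.card E = t * 4 ^ j)
    (hmax : ∀ Y : Subgroup W, Y ≤ E → z ∉ Y → Nat.card Y ≤ 2 ^ j) (m k : ℕ) (hj : j = k + m)
    (Y : Subgroup W) (hY : Y ≤ E) (hz : z ∉ Y) (hk : Nat.card Y = 2 ^ k) :
    2 * Set.ncard {x : W | x ∈ E ∧ x ∈ centralizer (Y : Set W) ∧ x * x = 1} ≤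
      2 ^ k * ((2 ^ m - 1) * (t * 2 ^ m + 4) + 4) := by
  induction m generalizing k Y with
  | zero =>
    refine A8a.easy (z := z) hk fun x h1 h2 h3 => ?_
    by_contra hn
    rw [not_or] at hn
    obtain ⟨Y', hY', hc⟩ := A8a.exists_ext Y h3 h2 hn.1
    have := hmax Y' (A8a.ext_le hY h1 hY') (by rw [hY']; exact fun h => h.elim hz hn.2)
    rw [hc, hk, hj, add_zero] at this
    have : 0 < 2 ^ k := by positivity
    omega
  | succ m ih =>
    by_cases hall : ∀ x ∈ E, x ∈ centralizer (Y : Set W) → x * x = 1 → x ∈ Y ∨ z * x ∈ Y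
    · exact A8a.easy hk hall
    push Not at hall
    obtain ⟨x, h1, h2, h3, hn⟩ := hall
    obtain ⟨Y', hY', hc⟩ := A8a.exists_ext Y h3 h2 hn.1
    have hle := A8a.ext_le hY h1 hY'
    have hz' : z ∉ Y' := by rw [hY']; exact fun h => h.elim hz hn.2
    have i1 := ih (k + 1) (by omega) Y' hle hz' (by rw [hc, hk, pow_succ'])
    have k1 := key_cent hx Y hY hz
    have k2 := key_cent hx Y' hle hz'
    have i2 := A8a.step (E := E) h1 h2 h3 hY'
    rw [hc, ← k1, mul_comm 2, mul_assoc] at k2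
    have k3 := Nat.eq_of_mul_eq_mul_left Nat.card_pos k2
    rw [hk, hE, hj, show 4 = 2 * 2 from rfl, mul_pow, pow_add, pow_succ] at k1
    obtain ⟨b, hb⟩ : ∃ b, 2 ^ m = b + 1 := ⟨2 ^ m - 1, by have : 0 < 2 ^ m := by positivity
                                                          omega⟩
    rw [pow_succ, hb, show (b + 1) * 2 - 1 = 2 * b + 1 by omega]
    rw [pow_succ, hb, Nat.add_sub_cancel] at i1
    rw [hb, ← k3] at k1
    have k4 : Nat.card (E ⊓ centralizer (Y' : Set W) : Subgroup W) = 2 ^ k * t * (b + 1) ^ 2 * 2 := by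
      have hp : 0 < 2 ^ k * 2 := by positivity
      refine Nat.eq_of_mul_eq_mul_left hp ?_
      linarith
    rw [← k3] at i2
    have : 2 ^ k * ((2 * b + 1) * (t * ((b + 1) * 2) + 4) + 4) =
      2 ^ k * 2 * (b * (t * (b + 1) + 4) + 4) + 2 ^ k * t * (b + 1) ^ 2 * 2 := by ring
    omega

end H38.Drg
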