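import Mathlib
import Cfsg.Agent.Lib.Drg.Defs
import Cfsg.Agent.Lib.Drg.A0
import Cfsg.Agent.Lib.Drg.KL
import Cfsg.Agent.Lib.Drg.A8a

namespace H38.Drg.A8b
open Subgroup MulAction

theorem dc {α β : Type*} [Finite α] [Finite β] (s : Set α) (t : Set β) (r : α → β → Prop)
    (m n : ℕ) (hm : ∀ a ∈ s, m ≤ {b | b ∈ t ∧ r a b}.ncard)
    (hn : ∀ b ∈ t, {a | a ∈ s ∧ r a b}.ncard ≤ n) : s.ncard * m ≤ t.ncard * n := by
  classical
  rw [Set.ncard_eq_toFinset_card s, Set.ncard_eq_toFinset_card t]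
  refine Finset.card_mul_le_card_mul r (fun a ha => ?_) fun b hb => ?_
  · refine (hm a (by simpa using ha)).trans_eq ?_
    rw [← Set.ncard_coe_finset]
    congr 1
    ext b
    simp [Finset.bipartiteAbove]
  · refine le_of_eq_of_le ?_ (hn b (by simpa using hb))
    rw [← Set.ncard_coe_finset]
    congr 1
    ext b
    simp [Finset.bipartiteBelow]

variable {W V : Type*} [Group W] [Finite W] [CommGroup V] [Finite V] [MulDistribMulAction W V]
  {E : Subgroup W} {z : W}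

omit [Finite W] [Finite V] in
theorem zz (hx : XS V 2 E z) : z * z = 1 := by rw [← sq, ← hx.ord, pow_orderOf_eq_one]

omit [Finite V] in
theorem eq_one (hx : XS V 2 E z) {Y : Subgroup W} (hz : z ∉ Y) {a : W} (h : a ∈ zpowers z)
    (ha : a ∈ Y) : a = 1 := by
  obtain ⟨n, rfl⟩ := mem_powers_iff_mem_zpowers.2 h
  simp only at ha ⊢
  rw [← pow_mod_orderOf, hx.ord] at ha ⊢
  rcases Nat.mod_two_eq_zero_or_one n with e | e <;> rw [e] at ha ⊢
  · exact pow_zero z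
  · exact (hz (by simpa using ha)).elim

omit [Finite V] in
theorem sq_one (hx : XS V 2 E z) {Y : Subgroup W} (hY : Y ≤ E) (hz : z ∉ Y) {a : W} (ha : a ∈ Y) :
    a * a = 1 := by
  rw [← sq]
  exact eq_one hx hz (hx.pow a (hY ha)) (Y.pow_mem ha 2)

omit [Finite V] in
theorem comm (hx : XS V 2 E z) {Y : Subgroup W} (hY : Y ≤ E) (hz : z ∉ Y) {a b : W} (ha : a ∈ Y)
    (hb : b ∈ Y) : a * b = b * a := by
  have := eq_one hx hz (hx.comm a (hY ha) b (hY hb))
    (Y.mul_mem (Y.mul_mem (Y.mul_mem ha hb) (Y.inv_mem ha)) (Y.inv_mem hb))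
  rwa [mul_inv_eq_one, mul_inv_eq_iff_eq_mul] at this

omit [Finite V] in
theorem card_pow (hx : XS V 2 E z) {Y : Subgroup W} (hY : Y ≤ E) (hz : z ∉ Y) :
    ∃ k, Nat.card Y = 2 ^ k :=
  IsPGroup.iff_card.1 fun a => ⟨1, Subtype.ext (by simpa [sq] using sq_one hx hY hz a.2)⟩

omit [Finite W] [Finite V] in
theorem z_not (hx : XS V 2 E z) {v : V} (hv : v ≠ 1) : z ∉ E ⊓ stabilizer W v :=
  fun h => hv (hx.fpf v h.2)

theorem count (hx : XS V 2 E z) {j t : ℕ} (hE : Nat.card E = t * 4 ^ j)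
    (hmax : ∀ Y : Subgroup W, Y ≤ E → z ∉ Y → Nat.card Y ≤ 2 ^ j) {m k x0 : ℕ}
    (hj : j = k + (m + 1)) (X : Set V)
    (hX : ∀ v ∈ X, v ≠ 1 ∧ Nat.card (E ⊓ stabilizer W v : Subgroup W) = 2 ^ j)
    (ih : ∀ Y : Subgroup W, Y ≤ E → z ∉ Y → Nat.card Y = 2 ^ (k + 1) →
      (X ∩ fx V Y).ncard ≤ x0)
    (Y : Subgroup W) (hY : Y ≤ E) (hz : z ∉ Y) (hk : Nat.card Y = 2 ^ k) :
    2 * (X ∩ fx V Y).ncard ≤ (t * 2 ^ (m + 1) + 4) * x0 := by
  set I : Set W := {x | (x ∈ E ∧ x ∈ centralizer (Y : Set W) ∧ x * x = 1) ∧ x ∉ Y ∧ z * x ∉ Y}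
  have eY : (Y : Set W).ncard = 2 ^ k := hk
  have h1 := inv_count hx j t hE hmax (m + 1) k hj Y hY hz hk
  have h2 : (I ∪ (Y ∪ (fun g => z * g) ⁻¹' (Y : Set W))).ncard ≤
      Set.ncard {x : W | x ∈ E ∧ x ∈ centralizer (Y : Set W) ∧ x * x = 1} := by
    refine Set.ncard_le_ncard ?_
    rintro x (h | h | h)
    · exact h.1
    · exact ⟨hY h, fun y hy => comm hx hY hz hy h, sq_one hx hY hz h⟩
    · have hxE : x ∈ E := (E.mul_mem_cancel_left hx.zE).1 (hY h)
      refine ⟨hxE, fun y hy => ?_, ?_⟩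
      · have := comm hx hY hz hy h
        rw [← mul_assoc, hx.cen y (hY hy), mul_assoc, mul_assoc] at this
        exact mul_left_cancel this
      · have := sq_one hx hY hz h
        simp only at this
        rwa [mul_assoc, ← mul_assoc x, hx.cen x hxE, mul_assoc, ← mul_assoc, zz hx, one_mul] at this
  rw [Set.ncard_union_eq, Set.ncard_union_eq, Set.ncard_preimage_of_injective_subset_range
    (mul_right_injective z) (by simp [(mul_left_surjective z).range_eq]), eY] at h2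
  rotate_left
  · rw [Set.disjoint_left]
    intro g hg hg'
    exact hz ((Y.mul_mem_cancel_right hg).1 hg')
  · rw [Set.disjoint_left]
    rintro g hg (hg' | hg')
    · exact hg.2.1 hg'
    · exact hg.2.2 hg'
  have h3 := dc (X ∩ fx V Y) I (fun v x => x • v = v) (2 ^ k * (2 ^ (m + 1) - 1)) x0 ?_ ?_
  · have hp : 0 < 2 ^ k * (2 ^ (m + 1) - 1) := by
      have : 1 < 2 ^ (m + 1) := Nat.one_lt_two_pow (by omega)
      exact Nat.mul_pos (by positivity) (by omega)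
    refine Nat.le_of_mul_le_mul_left ?_ hp
    have h4 : 2 * I.ncard ≤ 2 ^ k * (2 ^ (m + 1) - 1) * (t * 2 ^ (m + 1) + 4) := by
      rw [mul_add (2 ^ k), ← mul_assoc] at h1
      omega
    have := Nat.mul_le_mul_right x0 h4
    nlinarith
  · rintro v ⟨hv, hv'⟩
    obtain ⟨hv1, hc⟩ := hX v hv
    have hle : Y ≤ E ⊓ stabilizer W v := fun y hy => ⟨hY hy, hv' y hy⟩
    have hz' := z_not hx hv1
    have e : ((E ⊓ stabilizer W v : Subgroup W) : Set W).ncard = 2 ^ j := hc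
    have := Set.ncard_sdiff (s := (Y : Set W)) (t := ((E ⊓ stabilizer W v : Subgroup W) : Set W)) hle
    rw [e, eY, hj, pow_add] at this
    rw [Nat.mul_sub_one, ← this]
    refine Set.ncard_le_ncard fun x hx' => ⟨⟨⟨hx'.1.1, fun y hy => comm hx inf_le_left hz' (hle hy)
      hx'.1, sq_one hx inf_le_left hz' hx'.1⟩, hx'.2, fun h => hz' ?_⟩, hx'.1.2⟩
    exact (Subgroup.mul_mem_cancel_right _ hx'.1).1 (hle h)
  · intro x hx'
    obtain ⟨Y', hY', hc⟩ := A8a.exists_ext Y hx'.1.2.2 hx'.1.2.1 hx'.2.1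
    refine le_trans (Set.ncard_le_ncard ?_) (ih Y' (A8a.ext_le hY hx'.1.1 hY')
      (by rw [hY']; exact fun h => h.elim hz hx'.2.2) (by rw [hc, hk, pow_succ']))
    rintro v ⟨⟨h1, h2⟩, h3⟩
    refine ⟨h1, fun y hy => ((hY' y).1 hy).elim (h2 y) fun h => ?_⟩
    have := h2 _ h
    rwa [mul_smul, h3] at this

theorem bound (hx : XS V 2 E z) {j t w : ℕ} (hE : Nat.card E = t * 4 ^ j)
    (hmax : ∀ Y : Subgroup W, Y ≤ E → z ∉ Y → Nat.card Y ≤ 2 ^ j) (ht : 2 ≤ t) (htw : t + 1 ≤ w)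
    (hw : w ^ 2 ^ j = Nat.card V) (X : Set V)
    (hX : ∀ v ∈ X, v ≠ 1 ∧ Nat.card (E ⊓ stabilizer W v : Subgroup W) = 2 ^ j) (m : ℕ) :
    ∀ k, j = k + (m + 1) → ∀ Y : Subgroup W, Y ≤ E → z ∉ Y → Nat.card Y = 2 ^ k →
      (X ∩ fx V Y).ncard ≤ t * 2 ^ (m + 1) * (w ^ 2 ^ m - 1) := by
  induction m with
  | zero =>
    intro k hj Y hY hz hk
    have := count (x0 := w - 1) hx hE hmax hj X hX (fun Y' hY' hz' hk' => ?_) Y hY hz hk
    · simp only [zero_add, pow_one, pow_zero] at this ⊢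
      nlinarith [Nat.mul_le_mul_right (w - 1) ht]
    · have h1 := key_fx hx Y' hY' hz'
      rw [hk', ← hw, hj, zero_add] at h1
      have h2 : ((fx V Y' : Subgroup V) : Set V).ncard = w :=
        Nat.pow_left_injective (by positivity) h1
      rw [← h2, ← Set.ncard_sdiff_singleton_of_mem (fx V Y').one_mem]
      exact Set.ncard_le_ncard fun v hv => ⟨hv.2, (hX v hv.1).1⟩
  | succ m ih =>
    intro k hj Y hY hz hk
    have := count hx hE hmax hj X hX (ih (k + 1) (by omega)) Y hY hz hk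
    have h1 : 1 + 2 ^ m * t ≤ w ^ 2 ^ m := by
      have := one_add_mul_le_pow (a := (t : ℤ)) (by omega) (2 ^ m)
      have h2 : (1 + t) ^ 2 ^ m ≤ w ^ 2 ^ m := Nat.pow_le_pow_left (by omega) _
      have h3 : 1 + 2 ^ m * t ≤ (1 + t) ^ 2 ^ m := by exact_mod_cast this
      omega
    rw [pow_succ 2 m, pow_mul]
    obtain ⟨u, hu⟩ : ∃ u, w ^ 2 ^ m = u + 1 := ⟨w ^ 2 ^ m - 1, by omega⟩
    rw [hu] at this h1 ⊢
    rw [show (u + 1) ^ 2 - 1 = u * (u + 2) by rw [Nat.sub_eq_iff_eq_add (by nlinarith)]; ring]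
    simp only [pow_succ, Nat.add_sub_cancel] at this ⊢
    generalize 2 ^ m = a at *
    have h4 : t * (a * 2 * 2) + 4 ≤ 4 * (u + 2) := by nlinarith
    have := Nat.mul_le_mul_right (t * (a * 2) * u) h4
    nlinarith

end H38.Drg.A8b

namespace H38.Drg
open Subgroup MulAction

variable {W V : Type*} [Group W] [Finite W] [CommGroup V] [Finite V] [MulDistribMulAction W V]

/-- symplectic type, prime 2 -/
theorem even_case {K : Subgroup W} (h : Out V K) {E : Subgroup W} [E.Normal] {z : W}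
    (hx : XS V 2 E z) (hEK : E ≤ K) (hns : NS V E) :
    (K.index + 1) ^ 2 ≤ Nat.card V := by
  obtain ⟨y, hy, hy1, v0, hv0, hyv⟩ := hns
  have h1s : ∀ (g : W) (u : V), g • u = 1 → u = 1 := fun g u e => by
    rw [← inv_smul_smul g u, e, smul_one]
  have hz1 : z ≠ 1 := fun e => hv0 (hx.fpf _ (by rw [e, one_smul]))
  obtain ⟨Y0, ⟨hY0, hz0⟩, hmax⟩ := Set.exists_max_image {Y : Subgroup W | Y ≤ E ∧ z ∉ Y}
    (fun Y => Nat.card Y) (Set.toFinite _) ⟨⊥, bot_le, by simpa using hz1⟩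
  obtain ⟨j, hj⟩ := A8b.card_pow hx hY0 hz0
  replace hmax : ∀ Y : Subgroup W, Y ≤ E → z ∉ Y → Nat.card Y ≤ 2 ^ j :=
    fun Y h1 h2 => hj ▸ hmax Y ⟨h1, h2⟩
  obtain ⟨m, rfl⟩ : ∃ m, j = m + 1 := by
    refine ⟨j - 1, ?_⟩
    by_contra hh
    obtain rfl : j = 0 := by omega
    have := hmax _ inf_le_left (A8b.z_not hx hv0)
    rw [pow_zero, card_le_one_iff_eq_bot] at this
    exact hy1 (mem_bot.1 (this ▸ (⟨hy, hyv⟩ : y ∈ E ⊓ stabilizer W v0)))
  set C := E ⊓ centralizer (Y0 : Set W) with hC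
  have hle : Y0 ≤ C := fun a ha => ⟨hY0 ha, fun b hb => A8b.comm hx hY0 hz0 hb ha⟩
  set t := Y0.relIndex C with ht
  have hCt : Nat.card C = 2 ^ (m + 1) * t := by
    rw [← hj, ht, relIndex, ← card_mul_index (Y0.subgroupOf C),
      Nat.card_congr (subgroupOfEquivOfLe hle).toEquiv]
  have hE : Nat.card E = t * 4 ^ (m + 1) := by
    rw [← key_cent hx Y0 hY0 hz0, hCt, hj, show 4 = 2 * 2 from rfl, mul_pow]; ring
  have ht2 : 2 ≤ t := by
    have h0 : t ≠ 0 := index_ne_zero_of_finite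
    have h1 : t ≠ 1 := fun e => hz0 (relIndex_eq_one.1 e
      ⟨hx.zE, fun b hb => hx.cen b (hY0 hb)⟩)
    omega
  have hw := key_fx hx Y0 hY0 hz0
  rw [hj] at hw
  set w := Nat.card (fx V Y0) with hw'
  obtain ⟨v, hv, hv1⟩ : ∃ v ∈ fx V Y0, v ≠ 1 := by
    by_contra hh
    push Not at hh
    rw [hw', (eq_bot_iff_forall _).2 hh, card_bot, one_pow] at hw
    have := (Nat.card_eq_one_iff_unique.1 hw.symm).1
    exact hv0 (Subsingleton.elim _ _)
  have hEv : E ⊓ stabilizer W v = Y0 :=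
    (eq_of_le_of_card_ge (K := E ⊓ stabilizer W v) (fun a ha => ⟨hY0 ha, hv a ha⟩)
      (hj ▸ hmax _ inf_le_left (A8b.z_not hx hv1))).symm
  have htw : t + 1 ≤ w := by
    have e1 : (orbit C v).ncard = t := by
      rw [← index_stabilizer, ht, relIndex]
      congr 1
      ext a
      rw [mem_subgroupOf, ← hEv]
      exact ⟨fun h => ⟨a.2.1, h⟩, fun h => h.2⟩
    have e2 : ((fx V Y0 : Subgroup V) : Set V).ncard = w := rfl
    rw [← e1, ← e2, ← Set.ncard_insert_of_notMem (a := 1)]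
    · refine Set.ncard_le_ncard ?_
      rintro _ (rfl | ⟨a, rfl⟩)
      · exact one_mem _
      · intro b hb
        change b • (a : W) • v = (a : W) • v
        rw [← mul_smul, a.2.2 b hb, mul_smul, hv b hb]
    · rintro ⟨a, ha⟩
      exact hv1 (h1s (a : W) v ha)
  set X : Set V := {v | v ≠ 1 ∧ Nat.card (E ⊓ stabilizer W v : Subgroup W) = 2 ^ (m + 1)}
  have h1 := A8b.bound hx hE hmax ht2 htw hw X (fun _ h => h) m 0 (by omega) ⊥ bot_le
    (by simpa using hz1) (by simp)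
  have e : X ∩ fx V (⊥ : Subgroup W) = X :=
    Set.inter_eq_left.2 fun u _ a ha => by rw [mem_bot.1 ha, one_smul]
  have h2 := orb_le h E hEK hv1 X (fun g u hu => ⟨fun e => hu.1 (h1s g u e), ?_⟩)
    ⟨hv1, by rw [hEv, hj]⟩
  · rw [e] at h1
    rw [hEv, hj, hE] at h2
    have h3 : K.index ≤ w ^ 2 ^ m - 1 := by
      have hp : 0 < t * 4 ^ (m + 1) := by positivity
      refine Nat.le_of_mul_le_mul_right (h2.trans ?_) hp
      refine (Nat.mul_le_mul_right _ h1).trans_eq ?_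
      rw [show 4 = 2 * 2 from rfl, mul_pow]; ring
    have h4 : 0 < w ^ 2 ^ m := pow_pos (by omega) _
    rw [← hw, pow_succ 2 m, pow_mul]
    exact Nat.pow_le_pow_left (by omega) _
  · rw [← hu.2, stabilizer_smul_eq_stabilizer_map_conj]
    have : E = E.map (MulAut.conj g).toMonoidHom := (Subgroup.Normal.map_conj_eq E g).symm
    conv_lhs => rw [this, ← map_inf _ _ _ (MulAut.conj g).injective]
    exact card_map_of_injective (MulAut.conj g).injective

end H38.Drg
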