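import Mathlib
import Cfsg.Agent.Lib.Drg.Defs
import Cfsg.Agent.Lib.PGroup.TwoCyclic
import Cfsg.Agent.Lib.BG.Api.Rank2

namespace H38.Drg
open Subgroup MulAction

theorem PG.key {P : Type*} [Group P] [Finite P] {s : ℕ} (hs : s.Prime) (hP : IsPGroup s P)
    (A : Subgroup P) [A.Normal] (he : ∀ a ∈ A, a ^ s = 1) (hc : s < Nat.card A) :
    ∃ y z : P, y ^ s = 1 ∧ z ^ s = 1 ∧ z ≠ 1 ∧ y ∉ zpowers z ∧ (∀ g : P, g * z = z * g) ∧
      ∀ g : P, g * y * g⁻¹ * y⁻¹ ∈ zpowers z := by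
  have := Fact.mk hs
  have hne : A ≠ ⊥ := by
    rintro rfl
    rw [card_bot] at hc
    exact absurd hc (not_lt.2 hs.one_le)
  obtain ⟨z, hz, hzc, ho⟩ := H5.exists_mem_center_orderOf_eq hP A hne
  have hle : ¬ A ≤ zpowers z := fun h => by
    have := card_le_of_le h
    rw [Nat.card_zpowers, ho] at this
    omega
  obtain ⟨y, hy, hyz, -, hg⟩ := H5.exists_step hP (zpowers z) A hle
  refine ⟨y, z, he y hy, he z hz, fun e => ?_, hyz, mem_center_iff.1 hzc, fun g => ?_⟩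
  · rw [e, orderOf_one] at ho
    exact hs.one_lt.ne ho
  · have := inv_mem (hg g)
    rwa [commutatorElement_inv, commutatorElement_def] at this

open scoped IsMulCommutative in
theorem PG.omega {P : Type*} [Group P] [Finite P] {s : ℕ} (hs : s.Prime) (hP : IsPGroup s P)
    (A : Subgroup P) [hA : A.Normal] [IsMulCommutative A] (hc : ¬ IsCyclic A) :
    ∃ B : Subgroup P, B.Normal ∧ (∀ a ∈ B, a ^ s = 1) ∧ s < Nat.card B := by
  have := Fact.mk hs
  refine ⟨(powMonoidHom s : A →* A).ker.map A.subtype, ⟨?_⟩, ?_, ?_⟩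
  · rintro _ ⟨a, ha, rfl⟩ g
    have ha' : (a : P) ^ s = 1 := congrArg Subtype.val (show a ^ s = 1 from ha)
    refine ⟨⟨g * a * g⁻¹, hA.conj_mem _ a.2 g⟩, Subtype.ext ?_, rfl⟩
    show (g * a * g⁻¹) ^ s = 1
    rw [conj_pow, ha', mul_one, mul_inv_cancel]
  · rintro _ ⟨a, ha, rfl⟩
    exact congrArg Subtype.val (show a ^ s = 1 from ha)
  · rw [card_map_of_injective A.subtype_injective]
    exact not_le.1 fun h => hc (H45.comm_pgroup_cyclic_of_ker (hP.to_subgroup A) h)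

/-- a finite `s`-group has a normal subgroup of type `(s, s)`, or is cyclic, or `s = 2` and it has a
cyclic subgroup of index 2 -/
theorem pg_cases {P : Type*} [Group P] [Finite P] {s : ℕ} (hs : s.Prime) (hP : IsPGroup s P) :
    (∃ y z : P, y ^ s = 1 ∧ z ^ s = 1 ∧ z ≠ 1 ∧ y ∉ zpowers z ∧ (∀ g : P, g * z = z * g) ∧
      ∀ g : P, g * y * g⁻¹ * y⁻¹ ∈ zpowers z) ∨ IsCyclic P ∨
    (s = 2 ∧ ∃ c : P, Nat.card P = 2 * orderOf c) := by
  have := Fact.mk hs
  by_cases h2 : s = 2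
  · subst h2
    by_cases hn : ∀ A : Subgroup P, A.Normal → IsMulCommutative A → IsCyclic A
    · rcases H5.exists_of_normal_abelian_cyclic hP hn with h | ⟨a, b, m, -, hi, -⟩
      · exact Or.inr (Or.inl h)
      · exact Or.inr (Or.inr ⟨rfl, a, by rw [← hi, ← Nat.card_zpowers, index_mul_card]⟩)
    · push Not at hn
      obtain ⟨A, hA, hc, hnc⟩ := hn
      obtain ⟨B, hB, he, hlt⟩ := PG.omega hs hP A hnc
      exact Or.inl (PG.key hs hP B he hlt)
  · by_cases hc : IsCyclic P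
    · exact Or.inr (Or.inl hc)
    · obtain ⟨A, hA, he, hcard⟩ := H5.exists_normal_elementary_sq h2 hP hc
      refine Or.inl (PG.key hs hP A he.2 ?_)
      rw [hcard]
      exact lt_self_pow₀ hs.one_lt one_lt_two

end H38.Drg
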