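import Mathlib
import Cfsg.Agent.Lib.Drg.Defs
import Cfsg.Agent.Lib.Drg.A0
import Cfsg.Agent.Lib.Drg.A2
import Cfsg.Agent.Lib.Drg.A3
import Cfsg.Agent.Lib.Drg.A5
import Cfsg.Agent.Lib.Drg.A7
import Cfsg.Agent.Lib.Drg.A8b
import Cfsg.Agent.Lib.Drg.PG

namespace H38.Drg
open Subgroup MulAction

variable {W V : Type*} [Group W] [Finite W] [CommGroup V] [Finite V] [MulDistribMulAction W V]

namespace A9

omit [Finite W] in
theorem mem_zc {P : Subgroup W} {a : W} :
    a ∈ P ⊓ centralizer (P : Set W) ↔ a ∈ P ∧ ∀ g ∈ P, g * a = a * g := by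
  simp [mem_centralizer_iff]

omit [Finite W] in
theorem zc_normal (P : Subgroup W) [hP : P.Normal] : (P ⊓ centralizer (P : Set W)).Normal := ⟨by
  intro a ha w
  rw [mem_zc] at ha ⊢
  refine ⟨hP.conj_mem a ha.1 w, fun g hg => ?_⟩
  have := ha.2 _ (hP.conj_mem g hg w⁻¹)
  calc g * (w * a * w⁻¹) = w * (w⁻¹ * g * w⁻¹⁻¹ * a) * w⁻¹ := by group
    _ = _ := by rw [this]; group⟩

/-- either the bound holds or the centre of `A` is semiregular -/
theorem centre_case {K : Subgroup W} (h : Out V K) {s : ℕ} (hs : s.Prime)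
    (hcop : Nat.Coprime s (Nat.card V)) (A : Subgroup W) [A.Normal] (hAK : A ≤ K) (hA : IsPGroup s A) :
    (K.index + 1) ^ 2 ≤ Nat.card V ∨
      ∀ y ∈ A, (∀ g ∈ A, g * y = y * g) → ∀ v : V, v ≠ 1 → y • v = v → y = 1 := by
  have := Fact.mk hs
  have := zc_normal A
  by_cases hns : NS V (A ⊓ centralizer (A : Set W))
  · left
    refine ab_case h _ (le_trans inf_le_left hAK) (fun a ha b hb => (mem_zc.mp hb).2 a (mem_zc.mp ha).1) ?_ hns
    obtain ⟨k, hk⟩ := IsPGroup.iff_card.mp (hA.to_le (inf_le_left : A ⊓ centralizer (A : Set W) ≤ A))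
    rw [hk]
    exact hcop.pow_left k
  · right
    intro y hy hc v hv hyv
    by_contra h1
    exact hns ⟨y, mem_zc.mpr ⟨hy, hc⟩, h1, v, hv, hyv⟩

end A9

open A9 in
/-- normal `s`-subgroup which is not semiregular -/
theorem norm_case {K : Subgroup W} (h : Out V K) {s : ℕ} (hs : s.Prime)
    (hcop : Nat.Coprime s (Nat.card V)) (P : Subgroup W) [P.Normal] (hPK : P ≤ K)
    (hP : IsPGroup s P) (hns : NS V P) : (K.index + 1) ^ 2 ≤ Nat.card V := by
  have := Fact.mk hs
  have hPn : P.Normal := inferInstance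
  rcases centre_case h hs hcop P hPK hP with h1 | hZ
  · exact h1
  obtain ⟨y0, hy0, hy1, v0, hv0, hyv0⟩ := hns
  have : Nontrivial V := ⟨⟨v0, 1, hv0⟩⟩
  have hnab : ¬ ∀ a b : P, a * b = b * a := fun hc =>
    hy1 (hZ y0 hy0 (fun g hg => congrArg Subtype.val (hc ⟨g, hg⟩ ⟨y0, hy0⟩)) v0 hv0 hyv0)
  rcases pg_cases hs hP with ⟨y, z, hy, hz, hz1, hyz, hzc, hyc⟩ | hc | ⟨rfl, c, hc⟩
  · set Y : W := (y : W) with hY
    set z' : W := (z : W) with hz'
    have hYs : Y ^ s = 1 := congrArg Subtype.val hy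
    have hzs : z' ^ s = 1 := congrArg Subtype.val hz
    have hz1' : z' ≠ 1 := fun hh => hz1 (Subtype.ext hh)
    have hzc' : ∀ g ∈ P, g * z' = z' * g := fun g hg => congrArg Subtype.val (hzc ⟨g, hg⟩)
    have hzp : ∀ w ∈ zpowers z', w ∈ P ⊓ centralizer (P : Set W) :=
      fun w hw => (zpowers_le.mpr (mem_zc.mpr ⟨z.2, hzc'⟩)) hw
    have hzf : ∀ v : V, z' • v = v → v = 1 := fun v hv => by
      by_contra h1
      exact hz1' (hZ z' z.2 hzc' v h1 hv)
    set Z := P ⊓ centralizer (P : Set W) with hZd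
    have hZn : Z.Normal := zc_normal P
    let Z2 : Subgroup W :=
      { carrier := {a | a ∈ P ∧ ∀ g ∈ P, g * a * g⁻¹ * a⁻¹ ∈ Z}
        one_mem' := ⟨P.one_mem, fun g _ => by simp⟩
        mul_mem' := fun {a b} ha hb => ⟨P.mul_mem ha.1 hb.1, fun g hg => by
          have : g * (a * b) * g⁻¹ * (a * b)⁻¹ = (g * a * g⁻¹ * a⁻¹) * (a * (g * b * g⁻¹ * b⁻¹) * a⁻¹) := by group
          rw [this]
          exact Z.mul_mem (ha.2 g hg) (hZn.conj_mem _ (hb.2 g hg) a)⟩
        inv_mem' := fun {a} ha => ⟨P.inv_mem ha.1, fun g hg => by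
          have : g * a⁻¹ * g⁻¹ * a⁻¹⁻¹ = a⁻¹ * (g * a * g⁻¹ * a⁻¹)⁻¹ * a⁻¹⁻¹ := by group
          rw [this]
          exact hZn.conj_mem _ (Z.inv_mem (ha.2 g hg)) a⁻¹⟩ }
    let X : Set W := {a | a ∈ Z2 ∧ a ^ s = 1}
    set E := closure X with hE
    have hEZ2 : E ≤ Z2 := (closure_le _).mpr fun a ha => ha.1
    have hEP : E ≤ P := fun a ha => (hEZ2 ha).1
    have hEn : E.Normal := ⟨by
      intro a ha w
      induction ha using closure_induction with
      | mem a ha =>
        refine subset_closure ⟨⟨hPn.conj_mem a ha.1.1 w, fun g hg => ?_⟩, by rw [conj_pow, ha.2]; simp⟩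
        have := hZn.conj_mem _ (ha.1.2 _ (hPn.conj_mem g hg w⁻¹)) w
        convert this using 1
        group
      | one => simp
      | mul a b _ _ ha hb =>
        have := E.mul_mem ha hb
        convert this using 1
        group
      | inv a _ ha =>
        have := E.inv_mem ha
        convert this using 1
        group⟩
    have hzE : z' ∈ E := subset_closure ⟨⟨z.2, fun g hg => by rw [hzc' g hg]; simp⟩, hzs⟩
    have hYE : Y ∈ E := subset_closure ⟨⟨y.2, fun g hg => by
      obtain ⟨k, hk⟩ := hyc ⟨g, hg⟩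
      exact hzp _ ⟨k, congrArg Subtype.val hk⟩⟩, hYs⟩
    rcases centre_case h hs hcop E (le_trans hEP hPK) (hP.to_le hEP) with h1 | hZE
    · exact h1
    have homega : ∀ a ∈ E, (∀ b ∈ E, a * b = b * a) → a ^ s = 1 → a ∈ zpowers z' := by
      intro a ha hc has
      obtain ⟨k, v, hv, hf⟩ := ss_ns hs hcop a z' has hzs (hc _ hzE) hzf
      have := hZE (a * z' ^ k) (E.mul_mem ha (E.pow_mem hzE k)) (fun g hg => by
        have h2 : Commute g z' := hzc' g (hEP hg)
        rw [← mul_assoc, ← hc g hg, mul_assoc, mul_assoc, (h2.pow_right k).eq]) v hv hf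
      rw [mul_eq_one_iff_eq_inv] at this
      rw [this]
      exact inv_mem (npow_mem_zpowers _ k)
    have hcz : ∀ a ∈ E, ∀ b ∈ E, ∀ g ∈ P, g * (a * b * a⁻¹ * b⁻¹) = (a * b * a⁻¹ * b⁻¹) * g :=
      fun a ha b hb => (mem_zc.mp ((hEZ2 hb).2 a (hEP ha))).2
    have hcomm : ∀ a ∈ E, ∀ b ∈ E, a * b * a⁻¹ * b⁻¹ ∈ zpowers z' := by
      intro a ha b hb
      refine homega _ (E.mul_mem (E.mul_mem (E.mul_mem ha hb) (E.inv_mem ha)) (E.inv_mem hb))
        (fun g hg => (hcz a ha b hb g (hEP hg)).symm) ?_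
      induction hb using closure_induction with
      | mem b hb =>
        have hbE : b ∈ E := subset_closure hb
        have h2 : Commute (a * b * a⁻¹ * b⁻¹) b := (hcz a ha b hbE b (hEP hbE)).symm
        have h3 := h2.mul_pow s
        rw [inv_mul_cancel_right, conj_pow, hb.2] at h3
        simpa using h3.symm
      | one => simp
      | mul b b' hb hb' ih ih' =>
        have h2 : a * (b * b') * a⁻¹ * (b * b')⁻¹ = (a * b * a⁻¹ * b⁻¹) * (a * b' * a⁻¹ * b'⁻¹) := by
          have := hcz a ha b' hb' b (hEP hb)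
          calc _ = (a * b * a⁻¹ * b⁻¹) * (b * (a * b' * a⁻¹ * b'⁻¹)) * b⁻¹ := by group
            _ = _ := by rw [this]; group
        have h3 : Commute (a * b * a⁻¹ * b⁻¹) (a * b' * a⁻¹ * b'⁻¹) :=
          hcz a ha b' hb' _ (hEP (E.mul_mem (E.mul_mem (E.mul_mem ha hb) (E.inv_mem ha)) (E.inv_mem hb)))
        rw [h2, h3.mul_pow, ih, ih', mul_one]
      | inv b hb ih =>
        have h2 : a * b⁻¹ * a⁻¹ * b⁻¹⁻¹ = b⁻¹ * (a * b * a⁻¹ * b⁻¹)⁻¹ * b⁻¹⁻¹ := by group
        rw [h2, conj_pow, inv_pow, ih]; simp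
    have hpow : ∀ a ∈ E, a ^ s ∈ zpowers z' := by
      intro a ha
      induction ha using closure_induction with
      | mem a ha => rw [ha.2]; exact one_mem _
      | one => simp
      | mul a b ha hb ih ih' =>
        have key : ∀ n : ℕ, ∃ w ∈ zpowers z', (a * b) ^ n = w * (a ^ n * b ^ n) := by
          intro n
          induction n with
          | zero => exact ⟨1, one_mem _, by simp⟩
          | succ n ihn =>
            obtain ⟨w, hw, hn⟩ := ihn
            have h2 := hcomm _ (E.pow_mem hb n) a ha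
            have h3 := (mem_zc.mp (hzp _ h2)).2 _ (P.pow_mem (hEP ha) n)
            refine ⟨w * (b ^ n * a * (b ^ n)⁻¹ * a⁻¹), mul_mem hw h2, ?_⟩
            rw [pow_succ, hn, pow_succ, pow_succ]
            calc _ = w * (a ^ n * (b ^ n * a * (b ^ n)⁻¹ * a⁻¹)) * (a * (b ^ n * b)) := by group
              _ = _ := by rw [h3]; group
        obtain ⟨w, hw, hn⟩ := key s
        rw [hn]
        exact mul_mem hw (mul_mem ih ih')
      | inv a _ ih => rw [inv_pow]; exact inv_mem ih
    have hx : XS V s E z' :=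
      ⟨hs, hcop, hzE, orderOf_eq_prime hzs hz1', fun a ha => hzc' a (hEP ha), hzf, hcomm, hpow, homega⟩
    have hnsE : NS V E := by
      obtain ⟨k, v, hv, hf⟩ := ss_ns hs hcop Y z' hYs hzs (hzc' _ y.2) hzf
      refine ⟨Y * z' ^ k, E.mul_mem hYE (E.pow_mem hzE k), fun h1 => hyz ?_, v, hv, hf⟩
      rw [mul_eq_one_iff_eq_inv] at h1
      have : y = (z ^ k)⁻¹ := Subtype.ext h1
      rw [this]
      exact inv_mem (npow_mem_zpowers _ k)
    by_cases h2 : s = 2
    · subst h2
      exact even_case h hx (le_trans hEP hPK) hnsE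
    · exact odd_case h hx (le_trans hEP hPK) h2 hnsE
  · exact absurd (fun a b => hc.isMulCommutative.is_comm.comm a b) hnab
  · have : Nontrivial P := ⟨⟨⟨y0, hy0⟩, 1, fun hh => hy1 (congrArg Subtype.val hh)⟩⟩
    have hcn := hP.center_nontrivial
    obtain ⟨z, hz⟩ := exists_prime_orderOf_dvd_card' (G := center P) 2 (by
      obtain ⟨k, hk0, hk⟩ := (hP.to_subgroup (center P)).nontrivial_iff_card.mp hcn
      rw [hk]; exact dvd_pow_self 2 hk0.ne')
    have hz2 : (z : P) * z = 1 := by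
      have := pow_orderOf_eq_one z
      rw [hz, pow_two] at this
      exact congrArg Subtype.val this
    have hz1 : (z : P) ≠ 1 := fun hh => by
      have : z = 1 := Subtype.ext hh
      rw [this, orderOf_one] at hz
      omega
    have hzc : ∀ g : P, g * z = z * g := mem_center_iff.mp z.2
    by_cases hzm : (z : P) ∈ zpowers c
    · obtain ⟨k, hk⟩ := hzm
      refine dih_case h P hPK hP (Nat.coprime_two_left.mp hcop) c ((z : P) : W) c.2 ⟨k, congrArg Subtype.val hk⟩
        (congrArg Subtype.val hz2) (fun v hv => ?_) (by rw [orderOf_coe]; exact hc) ⟨y0, hy0, hy1, v0, hv0, hyv0⟩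
      by_contra h1
      exact hz1 (Subtype.ext (hZ _ (z : P).2 (fun g hg => congrArg Subtype.val (hzc ⟨g, hg⟩)) v h1 hv))
    · exfalso
      apply hnab
      have hi : (zpowers c).index = 2 := by
        have := (zpowers c).index_mul_card
        rw [Nat.card_zpowers, hc] at this
        exact Nat.eq_of_mul_eq_mul_right (orderOf_pos c) this
      have hform : ∀ a : P, ∃ (k : ℤ) (w : P), (∀ g : P, g * w = w * g) ∧ a = c ^ k * w := by
        intro a
        by_cases ha : a ∈ zpowers c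
        · obtain ⟨k, hk⟩ := ha
          exact ⟨k, 1, by simp, by simp [← hk]⟩
        · obtain ⟨k, hk⟩ : a * z ∈ zpowers c := by
            rw [mul_mem_iff_of_index_two hi]
            simp [ha, hzm]
          refine ⟨k, z, hzc, ?_⟩
          have hk' : c ^ k = a * z := hk
          rw [hk', mul_assoc, hz2, mul_one]
      intro a b
      obtain ⟨k, w, hw, rfl⟩ := hform a
      obtain ⟨l, u, hu, rfl⟩ := hform b
      have e1 : Commute (c ^ k) (c ^ l) := (Commute.refl c).zpow_zpow k l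
      have e2 : Commute (c ^ k) u := hu _
      have e3 : Commute w (c ^ l * u) := (hw _).symm
      exact ((e1.mul_right e2).mul_left e3).eq

/-- the affine lemma -/
theorem affine {K : Subgroup W} [K.Normal] (h : Out V K)
    (hcop : Nat.Coprime (Nat.card K) (Nat.card V)) (hns : NS V K) :
    (K.index + 1) ^ 2 ≤ Nat.card V := by
  obtain ⟨y, hy, hy1, v, hv, hyv⟩ := hns
  obtain ⟨s, hs, hsd⟩ := Nat.exists_prime_and_dvd (n := orderOf y) (by rwa [Ne, orderOf_eq_one_iff])
  have := Fact.mk hs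
  set x : K := ⟨y, hy⟩ ^ (orderOf y / s) with hx
  have hxo : orderOf x = s := by
    have h1 : orderOf (⟨y, hy⟩ : K) = orderOf y := (orderOf_coe _).symm
    rw [hx, ← h1]
    exact orderOf_pow_orderOf_div (orderOf_pos _).ne' (h1 ▸ hsd)
  have hxv : (x : W) • v = v := by
    have : (x : W) ∈ stabilizer W v := (stabilizer W v).pow_mem hyv _
    exact this
  have hx1 : (x : W) ≠ 1 := fun hh => by
    have : x = 1 := Subtype.ext hh
    rw [this, orderOf_one] at hxo
    exact hs.one_lt.ne hxo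
  obtain ⟨Q, hQ⟩ := IsPGroup.exists_le_sylow (p := s) (P := zpowers x)
    (IsPGroup.of_card (n := 1) (by rw [Nat.card_zpowers, hxo, pow_one]))
  set P : Subgroup W := (Q : Subgroup K).map K.subtype with hP
  have hfr : normalizer (P : Set W) ⊔ K = ⊤ := Q.normalizer_sup_eq_top
  set L := normalizer (P : Set W) with hL
  have hxP : (x : W) ∈ P := mem_map_of_mem _ (hQ (mem_zpowers x))
  have hPK : P ≤ K := map_subtype_le _
  have hPp : IsPGroup s P := Q.isPGroup'.map _
  have hidx : (K.subgroupOf L).index = K.index := by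
    change K.relIndex L = _
    rw [← relIndex_sup_right, hfr, relIndex_top_right]
  rw [← hidx]
  have : (P.subgroupOf L).Normal := normal_in_normalizer
  refine norm_case (W := L) ⟨fun w hw => Subtype.ext (h.faith w hw), fun w hw => h.out w hw⟩ hs
    (hcop.coprime_dvd_left (hxo ▸ orderOf_dvd_natCard x)) (P.subgroupOf L) (subgroupOf_mono L hPK)
    (hPp.comap_subtype) ⟨⟨x, le_normalizer hxP⟩, hxP, fun hh => hx1 (congrArg Subtype.val hh), v, hv, hxv⟩

end H38.Drg
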