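import Mathlib
import Cfsg.Agent.Lib.Drg.Defs

namespace H38.Drg
open Subgroup MulAction

variable {G Ω : Type*} [Group G] [Finite G] [MulAction G Ω] [Finite Ω]

theorem BU.aux {q : ℕ} (hq : q.Prime) (P : Subgroup G) (hP : IsPGroup q P) (β : Ω)
    (htr : ∀ γ, ∃ s ∈ P, s • β = γ) (hcard : Nat.card P = Nat.card Ω)
    (hβ : ¬ q ∣ Nat.card (stabilizer G β))
    (hn : normalizer (P : Set G) ≤ centralizer (P : Set G)) {w : G} (hw : w • β = β) (γ : Ω) :
    w • γ = γ := by
  have : Fact q.Prime := ⟨hq⟩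
  have : IsPretransitive G Ω := ⟨fun a b => by
    obtain ⟨s, -, rfl⟩ := htr a
    obtain ⟨t, -, rfl⟩ := htr b
    exact ⟨t * s⁻¹, by rw [mul_smul, inv_smul_smul]⟩⟩
  have h1 : Nat.card (stabilizer G β) * Nat.card P = Nat.card G := by
    rw [hcard, ← index_stabilizer_of_transitive G β, card_mul_index]
  have h2 : P.index = Nat.card (stabilizer G β) :=
    Nat.eq_of_mul_eq_mul_right (Nat.card_pos (α := P)) (by rw [h1, index_mul_card])
  let T : Sylow q G := hP.toSylow (h2 ▸ hβ)
  have hT : normalizer (T : Set G) ≤ centralizer (T : Set G) := hn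
  have hc := (MonoidHom.ker_transferSylow_isComplement' T hT).card_mul_card
  have h3 : stabilizer G β ≤ (MonoidHom.transferSylow T hT).ker := fun x hx => by
    rw [MonoidHom.mem_ker, ← orderOf_eq_one_iff]
    obtain ⟨k, hk⟩ := IsPGroup.iff_orderOf.1 T.2 (MonoidHom.transferSylow T hT x)
    have h4 : orderOf (MonoidHom.transferSylow T hT x) ∣ Nat.card (stabilizer G β) :=
      (orderOf_map_dvd _ x).trans (orderOf_dvd_natCard _ hx)
    rw [hk] at h4 ⊢
    rcases k with _ | k
    · rfl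
    · exact absurd ((dvd_pow_self q k.succ_ne_zero).trans h4) hβ
  have h4 : stabilizer G β = (MonoidHom.transferSylow T hT).ker := by
    refine eq_of_le_of_card_ge h3 (le_of_eq ?_)
    exact Nat.eq_of_mul_eq_mul_right (Nat.card_pos (α := P)) (hc.trans h1.symm)
  obtain ⟨s, -, rfl⟩ := htr γ
  have h5 : s⁻¹ * w * s ∈ stabilizer G β := by
    rw [h4]
    exact (MonoidHom.normal_ker _).conj_mem' w (h3 hw) s
  rw [mem_stabilizer_iff, mul_smul, mul_smul, inv_smul_eq_iff] at h5
  exact h5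

/-- Burnside transfer: the regular abelian Sylow subgroup is the centraliser of its elements -/
theorem cent_eq [FaithfulSMul G Ω] {q : ℕ} (hq : q.Prime) (S : Subgroup G) (hS : IsPGroup q S)
    (hcomm : ∀ a ∈ S, ∀ b ∈ S, a * b = b * a) (htr : IsPretransitive S Ω)
    (hcard : Nat.card S = Nat.card Ω) (β : Ω) (hβ : ¬ q ∣ Nat.card (stabilizer G β))
    (hsemi : ∀ w ∈ normalizer (S : Set G), w • β = β → ∀ y ∈ S, w * y = y * w → w = 1 ∨ y = 1) :
    Reg Ω S := by
  refine ⟨hcomm, htr, hcard, fun y hy y1 => ?_⟩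
  have hle : S ≤ centralizer ({y} : Set G) := fun s hs =>
    mem_centralizer_singleton_iff.2 (hcomm s hs y hy)
  have tr : ∀ γ, ∃ s ∈ S, s • β = γ := fun γ => by
    obtain ⟨s, hs⟩ := htr.exists_smul_eq β γ
    exact ⟨s, s.2, hs⟩
  refine le_antisymm (fun c hc => ?_) hle
  have key : ∀ w : centralizer ({y} : Set G), w • β = β → ∀ γ : Ω, w • γ = γ := by
    intro w hw
    refine BU.aux hq (S.subgroupOf (centralizer {y})) (hS.comap_subtype) β (fun γ => ?_) ?_ ?_ ?_ hw
    · obtain ⟨s, hs, e⟩ := tr γ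
      exact ⟨⟨s, hle hs⟩, hs, e⟩
    · rw [← hcard]
      exact Nat.card_congr (subgroupOfEquivOfLe hle).toEquiv
    · refine fun h => hβ (h.trans ?_)
      refine card_dvd_of_injective
        (((centralizer ({y} : Set G)).subtype.comp (stabilizer _ β).subtype).codRestrict
          (stabilizer G β) fun x => x.2) fun a b e => ?_
      have e' := congrArg Subtype.val e
      exact Subtype.ext (Subtype.ext e')
    · intro l hl
      rw [← subgroupOf_normalizer_eq hle, mem_subgroupOf] at hl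
      obtain ⟨s, hs, e⟩ := tr ((l : G) • β)
      have h1 : s⁻¹ * l = 1 := by
        refine (hsemi _ (mul_mem (inv_mem (le_normalizer hs)) hl) ?_ y hy ?_).resolve_right y1
        · rw [mul_smul, ← e, inv_smul_smul]
        · exact mem_centralizer_singleton_iff.1 (mul_mem (inv_mem (hle hs)) l.2)
      rw [inv_mul_eq_one] at h1
      exact mem_centralizer_iff.2 fun a ha => Subtype.ext (hcomm a ha l (h1 ▸ hs))
  obtain ⟨s, hs, e⟩ := tr (c • β)
  have h1 : s⁻¹ * c = 1 := by
    refine eq_of_smul_eq_smul (α := Ω) fun γ => ?_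
    rw [one_smul]
    refine key ⟨s⁻¹ * c, mul_mem (inv_mem (hle hs)) hc⟩ ?_ γ
    show (s⁻¹ * c) • β = β
    rw [mul_smul, ← e, inv_smul_smul]
  rw [inv_mul_eq_one] at h1
  exact h1 ▸ hs

end H38.Drg
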