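import Mathlib
import Cfsg.Agent.Lib.Drg.Defs
import Cfsg.Agent.Lib.Char.More

namespace H38.Drg.C1
open Subgroup MulAction

open Cfsg
variable {G Ω : Type*} [Group G] [Fintype G] [MulAction G Ω] [Finite Ω]

omit [Fintype G] in
theorem res_eq {S : Subgroup G} (h : Reg Ω S) [Nonempty Ω] (y : S) :
    (Nat.card (fixedBy Ω (y : G)) : ℂ) = H6.regChar S y := by
  by_cases hy : y = 1
  · subst hy
    rw [H6.regChar_one, h.card]
    simp
  · rw [H6.regChar_ne hy]
    have := h.tr
    have : IsEmpty (fixedBy Ω (y : G)) := ⟨fun ⟨x, hx⟩ => hy (by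
      have e := index_mul_card (stabilizer S x)
      rw [index_stabilizer_of_transitive, h.card] at e
      have e1 : Nat.card (stabilizer S x) = 1 :=
        Nat.eq_of_mul_eq_mul_left Nat.card_pos (e.trans (mul_one _).symm)
      exact mem_bot.1 (eq_bot_of_card_eq _ e1 ▸ (hx : y ∈ stabilizer S x)))⟩
    simp

omit [Finite Ω] in
theorem mem_of_fix {S : Subgroup G} (h : Reg Ω S) {w : G} (hw : w ∈ normalizer (S : Set G))
    {lam : S → ℂ} (hl : IsCharacter S lam) (h1 : lam 1 = 1) (hne : lam ≠ fun _ => 1)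
    (hf : ∀ y : S, lam ⟨w * y * w⁻¹, (mem_normalizer_iff.1 hw y).1 y.2⟩ = lam y) : w ∈ S := by
  by_contra hS
  have hinj : Function.Injective fun y : S =>
      (⟨w * y * w⁻¹, (mem_normalizer_iff.1 hw y).1 y.2⟩ * y⁻¹ : S) := by
    intro y y' e
    by_contra hy
    have e1 : w * y * w⁻¹ * (y : G)⁻¹ = w * y' * w⁻¹ * (y' : G)⁻¹ := congrArg Subtype.val e
    have h2 : ((y' : G)⁻¹ * y) ≠ 1 := fun e => hy (Subtype.ext (inv_mul_eq_one.1 e).symm)
    apply hS
    rw [← h.cent _ (S.mul_mem (S.inv_mem y'.2) y.2) h2, mem_centralizer_singleton_iff]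
    calc w * ((y' : G)⁻¹ * y) = (w * y' * w⁻¹)⁻¹ * (w * y * w⁻¹ * (y : G)⁻¹) * y * w := by group
      _ = (y' : G)⁻¹ * y * w := by rw [e1]; group
  apply hne
  ext x
  obtain ⟨y, rfl⟩ := Finite.surjective_of_injective hinj x
  rw [H6.char_mul_of_one_eq_one hl h1, hf, ← H6.char_mul_of_one_eq_one hl h1, mul_inv_cancel, h1]

omit [Finite Ω] in
theorem deg {S : Subgroup G} [Fintype S] (h : Reg Ω S) {ψ : G → ℂ} (hψ : IsClassFunction G ψ)
    {a : IrrCharacter S → ℕ} (ha : ∀ lam, classInner (fun y : S => ψ y) (lam : IrrCharacter S) = a lam)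
    {l0 : IrrCharacter S} (h0 : a l0 ≠ 0) (hne : (l0 : S → ℂ) ≠ fun _ => 1) :
    Nat.card (normalizer (S : Set G)) ≤ Nat.card S * ∑ lam, a lam := by
  classical
  have hc : ∀ a b : S, a * b = b * a := fun a b => Subtype.ext (h.comm _ a.2 _ b.2)
  let F : normalizer (S : Set G) → IrrCharacter S := fun u =>
    ⟨_, H6.isIrrCharacter_comp_equiv (S.normalizerMonoidHom u) l0.2⟩
  have h1 := Finset.card_le_mul_card_image_of_maps_to (f := F) (s := Finset.univ)
    (t := Finset.univ.filter fun lam => a lam ≠ 0) (fun u _ => ?_) (Nat.card S) fun lam _ => ?_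
  · rw [Nat.card_eq_fintype_card]
    refine h1.trans (Nat.mul_le_mul_left _ ?_)
    rw [Finset.card_filter]
    refine Finset.sum_le_sum fun lam _ => ?_
    split_ifs <;> omega
  · have e : (a (F u) : ℂ) = a l0 := by
      rw [← ha, ← ha, ← H6.classInner_comp_equiv (S.normalizerMonoidHom u).toEquiv _ l0]
      congr 1
      ext y
      exact (hψ y u).symm
    have e' : a (F u) = a l0 := by exact_mod_cast e
    simpa [e'] using h0
  · rcases (Finset.univ.filter fun u => F u = lam).eq_empty_or_nonempty with e | ⟨u0, hu0⟩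
    · rw [e]; exact Nat.zero_le _
    have e : Nat.card S = (Finset.univ.filter fun g : G => g ∈ S).card := by
      rw [Nat.card_eq_fintype_card, Fintype.card_subtype]
    rw [e]
    refine Finset.card_le_card_of_injOn (fun u => ((u * u0⁻¹ : normalizer (S : Set G)) : G))
      (fun u hu => ?_) fun u _ u' _ e => mul_right_cancel (Subtype.ext e)
    simp only [Finset.coe_filter, Finset.mem_univ, true_and, Finset.mem_filter, Set.mem_ofPred_eq]
      at hu hu0 ⊢
    refine mem_of_fix h (u * u0⁻¹).2 (H6.irr_isCharacter l0.2) (H6.irr_one_eq_one_of_comm hc l0.2)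
      hne fun y => ?_
    have := congrFun (congrArg Subtype.val (hu.trans hu0.symm)) (S.normalizerMonoidHom u0⁻¹ y)
    simp only [F, ← MulAut.mul_apply, ← map_mul, mul_inv_cancel, map_one, MulAut.one_apply] at this
    exact this

end H38.Drg.C1

namespace H38.Drg
open Subgroup MulAction

open Cfsg
variable {G Ω : Type*} [Group G] [Fintype G] [MulAction G Ω] [Finite Ω]

open Classical in
/-- constituents of the permutation character -/
theorem decomp {S : Subgroup G} [Fintype S] (h : Reg Ω S) [Nonempty Ω] :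
    ∃ (I : Finset (IrrCharacter G)) (d : IrrCharacter G → ℕ),
      (∀ g : G, (Nat.card (fixedBy Ω g) : ℂ) = 1 + ∑ ψ ∈ I, (ψ : G → ℂ) g) ∧
      (∀ ψ ∈ I, (ψ : G → ℂ) ≠ fun _ => 1) ∧
      (∀ ψ ∈ I, (ψ : G → ℂ) 1 = d ψ ∧
        Nat.card (normalizer (S : Set G)) ≤ Nat.card S * d ψ) ∧
      (∀ ψ ∈ I, ∀ φ ∈ I, ∑ y : S, (ψ : G → ℂ) y * (starRingEnd ℂ) ((φ : G → ℂ) y) =
        if ψ = φ then ((Nat.card S * d ψ : ℕ) : ℂ) else 0) := by
  have hc : ∀ a b : S, a * b = b * a := fun a b => Subtype.ext (h.comm _ a.2 _ b.2)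
  have hl : ∀ lam : IrrCharacter S, (lam : S → ℂ) 1 = 1 := fun lam =>
    H6.irr_one_eq_one_of_comm hc lam.2
  obtain ⟨m, hm⟩ := H6.char_eq_sum_irr (H6.isCharacter_fixedBy (G := G) Ω)
  choose a ha using fun ψ : IrrCharacter G =>
    H6.char_eq_sum_irr (H6.isCharacter_restrict S (H6.irr_isCharacter ψ.2))
  have ha' : ∀ (ψ : IrrCharacter G) (lam : IrrCharacter S),
      classInner (fun y : S => (ψ : G → ℂ) y) lam = a ψ lam := fun ψ lam => by
    rw [ha ψ, H6.inner_sum_irr]
  have hsum : ∀ lam, ∑ ψ, m ψ * a ψ lam = 1 := fun lam => by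
    have e : H6.regChar S = ∑ ψ : IrrCharacter G, (m ψ : ℂ) • fun y : S => (ψ : G → ℂ) y := by
      ext y
      rw [← C1.res_eq h, congrFun hm y]
      simp
    have := H6.classInner_regChar_left (lam : S → ℂ)
    rw [e, H6.classInner_sum_left, hl, map_one] at this
    simp only [H6.classInner_smul_left, ha'] at this
    exact_mod_cast this
  have hd : ∀ ψ : IrrCharacter G, (ψ : G → ℂ) 1 = ((∑ lam, a ψ lam : ℕ) : ℂ) := fun ψ => by
    have := congrFun (ha ψ) 1
    simpa [hl] using this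
  have hex : ∀ ψ : IrrCharacter G, ∃ lam, a ψ lam ≠ 0 := fun ψ => by
    by_contra hh
    push Not at hh
    exact H6.irr_one_ne_zero ψ.2 (by simp [hd, hh])
  have h1 : ∀ ψ lam, m ψ * a ψ lam ≤ 1 := fun ψ lam => (hsum lam).le.trans'
    (Finset.single_le_sum (f := fun ψ => m ψ * a ψ lam) (fun _ _ => Nat.zero_le _)
      (Finset.mem_univ ψ))
  have h2 : ∀ ψ φ lam, ψ ≠ φ → m ψ * a ψ lam + m φ * a φ lam ≤ 1 := fun ψ φ lam hne => by
    rw [← Finset.sum_pair (f := fun ψ => m ψ * a ψ lam) hne, ← hsum lam]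
    exact Finset.sum_le_sum_of_subset (Finset.subset_univ _)
  have hm1 : ∀ ψ, m ψ ≤ 1 := fun ψ => by
    obtain ⟨lam, hlam⟩ := hex ψ
    exact (Nat.le_mul_of_pos_right _ (Nat.pos_of_ne_zero hlam)).trans (h1 ψ lam)
  let o : IrrCharacter G := ⟨_, H6.isIrrCharacter_one⟩
  let oS : IrrCharacter S := ⟨_, H6.isIrrCharacter_one⟩
  have ho : m o = 1 := by
    have e := H6.classInner_fixedBy_one (G := G) Ω
    rw [hm] at e
    have e1 : (m o : ℂ) = Nat.card (orbitRel.Quotient G Ω) := (H6.inner_sum_irr _ o).symm.trans e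
    have e2 : m o = Nat.card (orbitRel.Quotient G Ω) := by exact_mod_cast e1
    have : Nonempty (orbitRel.Quotient G Ω) := ⟨Quotient.mk _ (Classical.arbitrary Ω)⟩
    have : 0 < Nat.card (orbitRel.Quotient G Ω) := Nat.card_pos
    have := hm1 o
    omega
  have hoo : a o oS = 1 := by
    have := (ha' o oS).symm.trans H6.classInner_one_one
    exact_mod_cast this
  refine ⟨Finset.univ.filter fun ψ => m ψ = 1 ∧ ψ ≠ o, fun ψ => ∑ lam, a ψ lam, fun g => ?_,
    fun ψ hψ e => (Finset.mem_filter.1 hψ).2.2 (Subtype.ext e), fun ψ hψ => ⟨hd ψ, ?_⟩,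
    fun ψ hψ φ hφ => ?_⟩
  · rw [congrFun hm g, Finset.sum_apply, ← Finset.add_sum_erase _ _ (Finset.mem_univ o), ho,
      Finset.sum_filter, ← Finset.sum_erase (a := o) (f := fun ψ : IrrCharacter G =>
        if m ψ = 1 ∧ ψ ≠ o then (ψ : G → ℂ) g else 0) _ (by simp)]
    congr 1
    · simp [o]
    · refine Finset.sum_congr rfl fun ψ hψ => ?_
      have := hm1 ψ
      have hne := (Finset.mem_erase.1 hψ).1
      by_cases e : m ψ = 1
      · simp [e, hne]
      · simp [show m ψ = 0 by omega]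
  · obtain ⟨-, e, hne⟩ := Finset.mem_filter.1 hψ
    obtain ⟨lam, hlam⟩ := hex ψ
    refine C1.deg h (H6.irr_isClassFunction ψ.2) (ha' ψ) hlam fun e' => hlam ?_
    have := h2 ψ o oS hne
    rw [e, ho, hoo] at this
    rw [show lam = oS from Subtype.ext e']
    omega
  · obtain ⟨-, e, -⟩ := Finset.mem_filter.1 hψ
    obtain ⟨-, e', -⟩ := Finset.mem_filter.1 hφ
    rw [← H6.card_mul_classInner (fun y : S => (ψ : G → ℂ) y) fun y : S => (φ : G → ℂ) y,
      H6.parseval (H6.isClassFunction_restrict S (H6.irr_isClassFunction ψ.2))]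
    simp only [ha', map_natCast]
    split_ifs with hh
    · subst hh
      push_cast
      congr 1
      refine Finset.sum_congr rfl fun lam _ => ?_
      have := h1 ψ lam
      rw [e, one_mul] at this
      interval_cases a ψ lam <;> simp
    · rw [Finset.sum_eq_zero, mul_zero]
      intro lam _
      have := h2 ψ φ lam hh
      rw [e, e'] at this
      rcases (by omega : a ψ lam = 0 ∨ a φ lam = 0) with e | e <;> simp [e]

end H38.Drg
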