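import Mathlib
import Cfsg.Agent.Lib.Drg.Defs
import Cfsg.Agent.Lib.Perm75.Derange

namespace H38.Drg
open Subgroup MulAction

variable {G Ω : Type*} [Group G] [Fintype G] [MulAction G Ω] [Finite Ω]

namespace TI

omit [Finite Ω] in
theorem norm_of_conj {S : Subgroup G} (h : Reg Ω S) {u y : G} (hy : y ∈ S) (hy1 : y ≠ 1)
    (hu : u * y * u⁻¹ ∈ S) : u ∈ normalizer (S : Set G) := by
  apply mem_normalizer_fintype
  intro s hs
  have h1 : u * y * u⁻¹ ≠ 1 := fun e => hy1 (by
    have := congrArg (fun x => u⁻¹ * x * u) e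
    simpa [mul_assoc] using this)
  rw [SetLike.mem_coe, ← h.cent _ hu h1, mem_centralizer_singleton_iff]
  have := h.comm s hs y hy
  calc u * s * u⁻¹ * (u * y * u⁻¹) = u * (s * y) * u⁻¹ := by group
    _ = u * y * u⁻¹ * (u * s * u⁻¹) := by rw [this]; group

theorem reg_one {S : Subgroup G} (h : Reg Ω S) (β : Ω) {s : G} (hs : s ∈ S) (hf : s • β = β) :
    s = 1 := by
  haveI := h.tr
  have h1 : (stabilizer S β).index = Nat.card Ω := index_stabilizer_of_transitive S β
  have h2 := (stabilizer S β).index_mul_card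
  rw [h1, h.card] at h2
  have hpos : 0 < Nat.card Ω := h.card ▸ Nat.card_pos
  have h3 : Nat.card (stabilizer S β) = 1 :=
    Nat.eq_of_mul_eq_mul_left hpos (h2.trans (mul_one _).symm)
  have h4 := Subgroup.card_eq_one.1 h3
  have : (⟨s, hs⟩ : S) ∈ stabilizer S β := hf
  rw [h4] at this
  exact congrArg Subtype.val (mem_bot.1 this)

open Classical in
omit [Finite Ω] in
theorem fibre {S : Subgroup G} (h : Reg Ω S) (g : G) :
    (Finset.univ.filter fun x : G => x⁻¹ * g * x ∈ S ∧ g ≠ 1).card =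
      if g ∈ cj S then Nat.card (normalizer (S : Set G)) else 0 := by
  split_ifs with hg
  · obtain ⟨x0, y, hy, hy1, rfl⟩ := hg
    rw [Nat.card_eq_fintype_card, Fintype.card_subtype]
    symm
    refine Finset.card_bij (fun u _ => x0 * u) ?_ ?_ ?_
    · intro u hu
      simp only [Finset.mem_filter, Finset.mem_univ, true_and] at hu ⊢
      refine ⟨?_, fun e => hy1 ?_⟩
      · have := (mem_normalizer_iff.1 (inv_mem hu) y).1 hy
        have e : (x0 * u)⁻¹ * (x0 * y * x0⁻¹) * (x0 * u) = u⁻¹ * y * u⁻¹⁻¹ := by group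
        rw [e]; exact this
      · have := congrArg (fun x => x0⁻¹ * x * x0) e
        simpa [mul_assoc] using this
    · intro a _ b _ hab
      exact mul_left_cancel hab
    · intro x hx
      simp only [Finset.mem_filter, Finset.mem_univ, true_and] at hx
      refine ⟨x0⁻¹ * x, ?_, by group⟩
      simp only [Finset.mem_filter, Finset.mem_univ, true_and]
      have : (x0⁻¹ * x)⁻¹ ∈ normalizer (S : Set G) := by
        refine norm_of_conj h hy hy1 ?_
        have e : (x0⁻¹ * x)⁻¹ * y * (x0⁻¹ * x)⁻¹⁻¹ = x⁻¹ * (x0 * y * x0⁻¹) * x := by group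
        rw [e]; exact hx.1
      simpa using inv_mem this
  · rw [Finset.card_eq_zero, Finset.filter_eq_empty_iff]
    rintro x _ ⟨h1, h2⟩
    refine hg ⟨x, _, h1, fun e => h2 ?_, by group⟩
    have := congrArg (fun z => x * z * x⁻¹) e
    simpa [mul_assoc] using this

end TI

/-- sum of a class function over the conjugates of `S^#` -/
theorem ti_sum {S : Subgroup G} [Fintype S] (h : Reg Ω S) (f : G → ℂ)
    (hf : ∀ x g : G, f (x * g * x⁻¹) = f g) :
    (Nat.card (normalizer (S : Set G)) : ℂ) * ∑ g : G, (cj S).indicator f g =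
      (Nat.card G : ℂ) * (∑ y : S, f y - f 1) := by
  classical
  have h1 : ∀ g : G, (Nat.card (normalizer (S : Set G)) : ℂ) * (cj S).indicator f g =
      ∑ x : G, if x⁻¹ * g * x ∈ S ∧ g ≠ 1 then f g else 0 := by
    intro g
    rw [← Finset.sum_filter, Finset.sum_const, nsmul_eq_mul]
    have := TI.fibre h g
    have e : (Finset.univ.filter fun x : G => x⁻¹ * g * x ∈ S ∧ g ≠ 1).card =
        if g ∈ cj S then Nat.card (normalizer (S : Set G)) else 0 := by convert this
    rw [e]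
    by_cases hg : g ∈ cj S <;> simp [hg]
  have h2 : ∀ x : G, (∑ g : G, if x⁻¹ * g * x ∈ S ∧ g ≠ 1 then f g else 0) =
      ∑ y : S, f y - f 1 := by
    intro x
    rw [← Equiv.sum_comp (MulAut.conj x).toEquiv]
    have e : ∀ y : G, (if x⁻¹ * (MulAut.conj x).toEquiv y * x ∈ S ∧ (MulAut.conj x).toEquiv y ≠ 1
        then f ((MulAut.conj x).toEquiv y) else 0) =
        (if y ∈ S then f y else 0) - (if y = 1 then f 1 else 0) := by
      intro y
      have e1 : (MulAut.conj x).toEquiv y = x * y * x⁻¹ := rfl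
      have e2 : x⁻¹ * (x * y * x⁻¹) * x = y := by group
      rw [e1, e2, hf]
      by_cases hy : y = 1
      · simp [hy]
      · have : x * y * x⁻¹ ≠ 1 := fun e => hy (by rw [← e2, e]; simp)
        simp [hy, this]
    rw [Finset.sum_congr rfl fun y _ => e y, Finset.sum_sub_distrib, Finset.sum_ite_eq' ,
      ← Finset.sum_filter, Finset.sum_subtype (p := fun y => y ∈ S) (F := ‹Fintype S›) _ (by simp)]
    simp
  rw [Finset.mul_sum, Finset.sum_congr rfl fun g _ => h1 g, Finset.sum_comm,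
    Finset.sum_congr rfl fun x _ => h2 x, Finset.sum_const, nsmul_eq_mul, Finset.card_univ,
    Nat.card_eq_fintype_card]

theorem fix_zero {S : Subgroup G} (h : Reg Ω S) {g : G} (hg : g ∈ cj S) :
    Nat.card (fixedBy Ω g) = 0 := by
  obtain ⟨x, y, hy, hy1, rfl⟩ := hg
  haveI : IsEmpty (fixedBy Ω (x * y * x⁻¹)) := ⟨fun a => hy1 (TI.reg_one h (x⁻¹ • (a : Ω)) hy (by
    have h1 : (x * y * x⁻¹) • (a : Ω) = a := a.2
    have := congrArg (fun z => x⁻¹ • z) h1
    simpa [mul_smul] using this))⟩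
  exact Nat.card_of_isEmpty

theorem fix_one {S : Subgroup G} (h : Reg Ω S) [Nonempty Ω] {u : G}
    (hu : u ∈ normalizer (S : Set G)) (huS : u ∉ S) : Nat.card (fixedBy Ω u) = 1 := by
  obtain ⟨β⟩ := ‹Nonempty Ω›
  have hc : ∀ s ∈ S, u * s = s * u → s = 1 := by
    intro s hs e
    by_contra h1
    apply huS
    rw [← h.cent s hs h1, mem_centralizer_singleton_iff]
    exact e
  have hcj : ∀ s ∈ S, u * s * u⁻¹ ∈ S := fun s hs => (mem_normalizer_iff.1 hu s).1 hs
  rw [Nat.card_eq_one_iff_unique]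
  refine ⟨⟨fun a b => ?_⟩, ?_⟩
  · obtain ⟨s, hs⟩ := h.tr.exists_smul_eq (a : Ω) b
    have hs' : (s : G) • (a : Ω) = b := hs
    have ha : u • (a : Ω) = a := a.2
    have hb : u • (b : Ω) = b := b.2
    have ha' : u⁻¹ • (a : Ω) = a := by rw [inv_smul_eq_iff, ha]
    have h1 : ((s : G)⁻¹ * (u * s * u⁻¹)) • (a : Ω) = a := by
      rw [mul_smul, mul_smul, mul_smul, ha', hs', hb, inv_smul_eq_iff, hs']
    have h2 := TI.reg_one h _ (S.mul_mem (S.inv_mem s.2) (hcj s s.2)) h1
    have h3 : (s : G) = 1 := hc s s.2 (by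
      have : u * s * u⁻¹ = s := (inv_mul_eq_one.1 h2).symm
      exact mul_inv_eq_iff_eq_mul.1 this)
    apply Subtype.ext
    rw [← hs', h3, one_smul]
  · let φ : S → S := fun s => ⟨(s : G)⁻¹ * (u * s * u⁻¹), S.mul_mem (S.inv_mem s.2) (hcj s s.2)⟩
    have hφ : Function.Injective φ := by
      intro a b hab
      have e : (a : G)⁻¹ * (u * a * u⁻¹) = (b : G)⁻¹ * (u * b * u⁻¹) := congrArg Subtype.val hab
      have h1 : (b : G) * (a : G)⁻¹ = 1 := hc _ (S.mul_mem b.2 (S.inv_mem a.2)) (by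
        have e2 : u * b * u⁻¹ = b * ((a : G)⁻¹ * (u * a * u⁻¹)) := by rw [e]; group
        calc u * ((b : G) * (a : G)⁻¹) = (u * b * u⁻¹) * (u * (a : G)⁻¹) := by group
          _ = (b : G) * (a : G)⁻¹ * u := by rw [e2]; group)
      exact Subtype.ext (mul_inv_eq_one.1 h1).symm
    obtain ⟨s0, hs0⟩ := h.tr.exists_smul_eq β (u • β)
    have hs0' : (s0 : G) • β = u • β := hs0
    obtain ⟨s, hs⟩ := (Finite.injective_iff_surjective.1 hφ) s0⁻¹
    have e : (s : G)⁻¹ * (u * s * u⁻¹) = (s0 : G)⁻¹ := congrArg Subtype.val hs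
    refine ⟨⟨(s : G) • β, ?_⟩⟩
    show u • (s : G) • β = (s : G) • β
    have e2 : u * s = s * (s0 : G)⁻¹ * u := by rw [← e]; group
    rw [← mul_smul, e2, mul_smul, mul_smul, ← hs0', inv_smul_smul]

theorem normal_of_fix {S : Subgroup G} (h : Reg Ω S) [Nonempty Ω]
    (h1 : ∀ g : G, g ∉ cj S → g ≠ 1 → Nat.card (fixedBy Ω g) = 1) : S.Normal := by
  classical
  have htr : IsPretransitive G Ω := ⟨fun a b => by
    obtain ⟨s, hs⟩ := h.tr.exists_smul_eq a b
    exact ⟨s, hs⟩⟩
  have h2 := H75.sum_card_fixedBy G Ω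
  rw [H75.card_orbits_eq_one htr, one_mul] at h2
  have h1c : (1 : G) ∉ cj S := by
    rintro ⟨x, y, _, hy1, e⟩
    apply hy1
    have := congrArg (fun z => x⁻¹ * z * x) e
    simpa [mul_assoc] using this.symm
  have h3 : ∀ g : G, Nat.card (fixedBy Ω g) + (if g ∈ cj S then 1 else 0) + (if g = 1 then 1 else 0)
      = 1 + (if g = 1 then Nat.card Ω else 0) := by
    intro g
    by_cases hg : g = 1
    · subst hg
      simp [h1c, add_comm]
    · by_cases hc : g ∈ cj S
      · simp [hg, hc, fix_zero h hc]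
      · simp [hg, hc, h1 g hc hg]
  have h4 := Finset.sum_congr (rfl : (Finset.univ : Finset G) = _) fun g _ => h3 g
  simp only [Finset.sum_add_distrib, Finset.sum_ite_eq', Finset.mem_univ, if_true, h2,
    Finset.sum_const, smul_eq_mul, mul_one, Finset.card_univ, Finset.sum_boole,
    Nat.cast_id] at h4
  rw [← Nat.card_eq_fintype_card] at h4
  have h5 : (cj S).ncard = (Finset.univ.filter fun g : G => g ∈ cj S).card := by
    rw [← Set.ncard_coe_finset]; congr 1; ext g; simp
  have h6 : ((S : Set G) \ {1}).ncard + 1 = (S : Set G).ncard :=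
    Set.ncard_sdiff_singleton_add_one S.one_mem
  have h7 : (S : Set G).ncard = Nat.card Ω := by rw [← h.card]; exact (Nat.card_coe_set_eq _).symm
  have h8 : (S : Set G) \ {1} = cj S := by
    apply Set.eq_of_subset_of_ncard_le _ (by omega)
    rintro y ⟨hy, hy1⟩
    exact ⟨1, y, hy, hy1, by simp⟩
  refine ⟨fun y hy x => ?_⟩
  by_cases hy1 : y = 1
  · simp [hy1]
  · have : x * y * x⁻¹ ∈ (S : Set G) \ {1} := h8 ▸ ⟨x, y, hy, hy1, rfl⟩
    exact this.1

end H38.Drg
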