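import Mathlib
import Cfsg.Agent.Lib.Drg.Defs
import Cfsg.Agent.Lib.Drg.TI
import Cfsg.Agent.Lib.Drg.C1

namespace H38.Drg
open Subgroup MulAction

open Cfsg
variable {G Ω : Type*} [Group G] [Fintype G] [MulAction G Ω] [Finite Ω]

namespace C2
open H6

theorem arith {n X Y e : ℤ} (he : 0 ≤ e) (hX : e ≤ X) (hY : e ≤ Y) (hXn : X < n) (hYn : Y < n)
    (h : n * (X + Y - 2 * e) ≤ (X - Y) ^ 2) : X = e ∧ Y = e := by
  have key : ∀ X Y : ℤ, e ≤ Y → Y ≤ X → X < n → n * (X + Y - 2 * e) ≤ (X - Y) ^ 2 →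
      X = e ∧ Y = e := fun X Y h1 h2 h3 h4 => by
    have h5 : X = Y := by
      by_contra h5
      have h6 : 0 < X - Y := by omega
      have h7 : 0 < n - (X - Y) := by omega
      nlinarith [mul_pos h6 h7, mul_nonneg (show 0 ≤ n by omega) (show 0 ≤ Y - e by omega)]
    subst h5
    have : X - e ≤ 0 := by
      by_contra h6
      nlinarith [mul_pos (show 0 < n by omega) (show 0 < X - e by omega)]
    omega
  rcases le_total Y X with h1 | h1
  · exact key X Y hY h1 hXn h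
  · exact (key Y X hX h1 hYn (by linarith)).symm

theorem pair {S : Subgroup G} [Fintype S] (h : Reg Ω S) {e X Y : ℕ}
    (he : Nat.card (normalizer (S : Set G)) = Nat.card S * e) {ψ φ : G → ℂ}
    (hψ : IsIrrCharacter G ψ) (hφ : IsIrrCharacter G φ) (hne : ψ ≠ φ) (hX : ψ 1 = X) (hY : φ 1 = Y)
    (eX : e ≤ X) (eY : e ≤ Y) (Xn : X < Nat.card S) (Yn : Y < Nat.card S)
    (s1 : ∑ y : S, ψ y * (starRingEnd ℂ) (ψ y) = ((Nat.card S * X : ℕ) : ℂ))
    (s2 : ∑ y : S, φ y * (starRingEnd ℂ) (φ y) = ((Nat.card S * Y : ℕ) : ℂ))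
    (s3 : ∑ y : S, ψ y * (starRingEnd ℂ) (φ y) = 0)
    (s4 : ∑ y : S, φ y * (starRingEnd ℂ) (ψ y) = 0) :
    X = e ∧ ∀ g, g ∉ cj S → ψ g = φ g := by
  classical
  set F : G → ℝ := fun g => Complex.normSq (ψ g - φ g) with hF
  have hF0 : ∀ g, 0 ≤ F g := fun g => Complex.normSq_nonneg _
  have hf : ∀ g, (F g : ℂ) = (ψ g - φ g) * (starRingEnd ℂ) (ψ g - φ g) := fun g =>
    (Complex.mul_conj _).symm
  have t1 : ∑ g, F g = 2 * Nat.card G := by
    have h1 := card_mul_classInner (ψ - φ) (ψ - φ)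
    rw [classInner_sub_left, classInner_sub_right, classInner_sub_right, irr_inner_self hψ,
      irr_inner_self hφ, irr_inner_ne hψ hφ hne, irr_inner_ne hφ hψ hne.symm] at h1
    have h2 : ((∑ g, F g : ℝ) : ℂ) = ((2 * Nat.card G : ℝ) : ℂ) := by
      push_cast
      simp only [hf]
      exact h1.symm.trans (by ring)
    exact_mod_cast h2
  have t2 : ∑ y : S, (F y : ℂ) = Nat.card S * X + Nat.card S * Y := by
    simp only [hf, map_sub, sub_mul, mul_sub, Finset.sum_sub_distrib, s1, s2, s3, s4]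
    push_cast; ring
  have t3 : (F 1 : ℂ) = ((X : ℂ) - Y) ^ 2 := by
    rw [hf, hX, hY, map_sub, map_natCast, map_natCast, sq]
  have t4 := ti_sum h (fun g => (F g : ℂ)) fun x g => by
    simp only [hF, irr_isClassFunction hψ g x, irr_isClassFunction hφ g x]
  rw [t2, t3, he] at t4
  have t5 : ((Nat.card S * e : ℕ) : ℝ) * ∑ g, (cj S).indicator F g =
      (Nat.card G : ℝ) * (Nat.card S * X + Nat.card S * Y - ((X : ℝ) - Y) ^ 2) := by
    have : ∀ g, (cj S).indicator (fun g => (F g : ℂ)) g = (((cj S).indicator F g : ℝ) : ℂ) :=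
      fun g => by by_cases hg : g ∈ cj S <;> simp [hg]
    simp only [this] at t4
    exact_mod_cast t4
  have t6 : ∑ g, (cj S).indicator F g + ∑ g, (cj S)ᶜ.indicator F g = 2 * Nat.card G := by
    rw [← Finset.sum_add_distrib, ← t1]
    exact Finset.sum_congr rfl fun g _ => Set.indicator_self_add_compl_apply _ _ _
  have hB0 : ∀ g, 0 ≤ (cj S)ᶜ.indicator F g := fun g => Set.indicator_nonneg (fun g _ => hF0 g) g
  have hB : 0 ≤ ∑ g, (cj S)ᶜ.indicator F g := Finset.sum_nonneg fun g _ => hB0 g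
  have hG : (0 : ℝ) < Nat.card G := by exact_mod_cast Nat.card_pos
  have hN : (0 : ℝ) < (Nat.card S * e : ℕ) := by rw [← he]; exact_mod_cast Nat.card_pos
  have t7 : ((Nat.card S * e : ℕ) : ℝ) * ∑ g, (cj S)ᶜ.indicator F g =
      (Nat.card G : ℝ) * (((X : ℝ) - Y) ^ 2 - Nat.card S * (X + Y - 2 * e)) := by
    push_cast at t5 ⊢
    linear_combination (Nat.card S * e : ℝ) * t6 - t5
  have t8 : (Nat.card S : ℝ) * (X + Y - 2 * e) ≤ ((X : ℝ) - Y) ^ 2 := by
    have := mul_nonneg hN.le hB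
    rw [t7] at this
    have := nonneg_of_mul_nonneg_right this hG
    linarith
  obtain ⟨h1, h2⟩ := arith (n := Nat.card S) (X := X) (Y := Y) (e := e) (by omega) (by omega)
    (by omega) (by omega) (by omega) (by exact_mod_cast t8)
  obtain rfl : X = e := by omega
  obtain rfl : Y = X := by omega
  refine ⟨rfl, fun g hg => ?_⟩
  have t9 : ∑ g, (cj S)ᶜ.indicator F g = 0 := by
    refine (mul_eq_zero.1 (t7.trans ?_)).resolve_left hN.ne'
    ring
  have := (Finset.sum_eq_zero_iff_of_nonneg fun g _ => hB0 g).1 t9 g (Finset.mem_univ g)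
  rw [Set.indicator_of_mem (show g ∈ (cj S)ᶜ from hg)] at this
  exact sub_eq_zero.1 (Complex.normSq_eq_zero.1 this)

end C2

open H6 in
/-- rank at least 3: all constituents have degree `e` and agree off the conjugates of `S^#` -/
theorem equal_deg {S : Subgroup G} [Fintype S] (h : Reg Ω S) [Nonempty Ω] {e : ℕ}
    (he : Nat.card (normalizer (S : Set G)) = Nat.card S * e)
    (hrk : 3 ≤ Nat.card (orbitRel.Quotient G (Ω × Ω))) :
    ∃ (χ : G → ℂ) (t : ℕ), IsIrrCharacter G χ ∧ 2 ≤ t ∧ t * e + 1 = Nat.card Ω ∧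
      (∀ g : G, g ∉ cj S → (Nat.card (fixedBy Ω g) : ℂ) = 1 + t * χ g) ∧
      ∑ y : S, χ y * (starRingEnd ℂ) (χ y) = ((Nat.card S * e : ℕ) : ℂ) ∧
      classInner (fun g : G => (Nat.card (fixedBy Ω g) : ℂ)) χ = 1 := by
  classical
  obtain ⟨I, d, h1, h2, h3, h4⟩ := decomp h
  have hπ : (fun g : G => (Nat.card (fixedBy Ω g) : ℂ)) =
      (fun _ => 1) + ∑ ψ ∈ I, (ψ : G → ℂ) := funext fun g => by rw [h1 g, Pi.add_apply, Finset.sum_apply]
  have i1 : ∀ φ ∈ I, classInner (fun g : G => (Nat.card (fixedBy Ω g) : ℂ)) φ = 1 := fun φ hφ => by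
    rw [hπ, classInner_add_left, classInner_sum_left,
      irr_inner_ne isIrrCharacter_one φ.2 (h2 φ hφ).symm]
    simp [irr_inner', hφ]
  have i2 : classInner (fun g : G => (Nat.card (fixedBy Ω g) : ℂ)) (fun _ => 1) = 1 := by
    rw [hπ, classInner_add_left, classInner_sum_left, classInner_one_one,
      Finset.sum_eq_zero fun ψ hψ => irr_inner_ne ψ.2 isIrrCharacter_one (h2 ψ hψ), add_zero]
  have i3 : Nat.card (orbitRel.Quotient G (Ω × Ω)) = 1 + I.card := by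
    have := classInner_fixedBy (G := G) Ω Ω
    nth_rw 2 [hπ] at this
    rw [classInner_add_right, classInner_sum_right, i2, Finset.sum_congr rfl i1] at this
    simp only [Finset.sum_const, nsmul_eq_mul, mul_one] at this
    exact_mod_cast this.symm
  have i4 : Nat.card Ω = 1 + ∑ ψ ∈ I, d ψ := by
    have := h1 1
    rw [fixedBy_one_eq_univ, Nat.card_univ, Finset.sum_congr rfl fun ψ hψ => (h3 ψ hψ).1] at this
    exact_mod_cast this
  have hS : 0 < Nat.card S := Nat.card_pos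
  have i5 : ∀ ψ ∈ I, e ≤ d ψ := fun ψ hψ => Nat.le_of_mul_le_mul_left (he ▸ (h3 ψ hψ).2) hS
  have i6 : ∀ ψ ∈ I, d ψ < Nat.card S := fun ψ hψ => by
    have := Finset.single_le_sum (f := d) (fun _ _ => Nat.zero_le _) hψ
    rw [h.card]; omega
  have key : ∀ ψ ∈ I, ∀ φ ∈ I, ψ ≠ φ → d ψ = e ∧ ∀ g, g ∉ cj S → (ψ : G → ℂ) g = (φ : G → ℂ) g :=
    fun ψ hψ φ hφ hne => C2.pair h he ψ.2 φ.2 (fun e => hne (Subtype.ext e)) (h3 ψ hψ).1
      (h3 φ hφ).1 (i5 ψ hψ) (i5 φ hφ) (i6 ψ hψ) (i6 φ hφ) (by rw [h4 ψ hψ ψ hψ, if_pos rfl])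
      (by rw [h4 φ hφ φ hφ, if_pos rfl]) (by rw [h4 ψ hψ φ hφ, if_neg hne])
      (by rw [h4 φ hφ ψ hψ, if_neg hne.symm])
  have hI : 1 < I.card := by omega
  have i7 : ∀ ψ ∈ I, d ψ = e := fun ψ hψ => by
    obtain ⟨φ, hφ, hne⟩ := Finset.exists_mem_ne hI ψ
    exact (key ψ hψ φ hφ hne.symm).1
  obtain ⟨χ, hχ⟩ := Finset.card_pos.1 (show 0 < I.card by omega)
  refine ⟨χ, I.card, χ.2, hI, ?_, fun g hg => ?_, ?_, i1 χ hχ⟩
  · rw [i4, Finset.sum_congr rfl i7, Finset.sum_const, smul_eq_mul, add_comm]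
  · have : ∀ ψ ∈ I, (ψ : G → ℂ) g = (χ : G → ℂ) g := fun ψ hψ => by
      by_cases hne : ψ = χ
      · rw [hne]
      · exact (key ψ hψ χ hχ hne).2 g hg
    rw [h1 g, Finset.sum_congr rfl this, Finset.sum_const, nsmul_eq_mul]
  · rw [h4 χ hχ χ hχ, if_pos rfl, i7 χ hχ]

end H38.Drg
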