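import Mathlib
import Cfsg.Agent.Lib.Drg.Defs
import Cfsg.Agent.Lib.Drg.TI
import Cfsg.Agent.Lib.Char.More

namespace H38.Drg
open Subgroup MulAction

open Cfsg
variable {G Ω : Type*} [Group G] [Fintype G] [MulAction G Ω] [Finite Ω]

namespace C3

omit [Group G] in
open Classical in
theorem split (X : Set G) (f : G → ℂ) :
    ∑ g : G, f g = ∑ g ∈ Finset.univ.filter (fun g => g ∉ X), f g + ∑ g : G, X.indicator f g := by
  rw [Finset.sum_filter, ← Finset.sum_add_distrib]
  refine Finset.sum_congr rfl fun g _ => ?_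
  by_cases h : g ∈ X <;> simp [h]

open Classical in
theorem sum_sub (T S : Subgroup G) [Fintype T] [Fintype S] (hST : S ≤ T) (f : G → ℂ)
    (h0 : ∀ u ∈ T, u ∉ S → f u = 0) : ∑ u : T, f u = ∑ y : S, f y := by
  rw [← Finset.sum_subtype (Finset.univ.filter (fun g => g ∈ T)) (by simp) f,
    ← Finset.sum_subtype (Finset.univ.filter (fun g => g ∈ S)) (by simp) f]
  symm
  apply Finset.sum_subset
  · intro g hg
    simp only [Finset.mem_filter, Finset.mem_univ, true_and] at hg ⊢
    exact hST hg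
  · intro g hg hg'
    simp only [Finset.mem_filter, Finset.mem_univ, true_and] at hg hg'
    exact h0 g hg hg'

end C3

/-- the cubic norm computation -/
theorem cubic [FaithfulSMul G Ω] {S : Subgroup G} [Fintype S] (h : Reg Ω S) [Nonempty Ω] {e : ℕ}
    (he : Nat.card (normalizer (S : Set G)) = Nat.card S * e) (χ : G → ℂ) (t : ℕ)
    (hχ : IsIrrCharacter G χ) (ht : 2 ≤ t) (hte : t * e + 1 = Nat.card Ω) (hle : e ≤ t + 1)
    (hoff : ∀ g : G, g ∉ cj S → (Nat.card (fixedBy Ω g) : ℂ) = 1 + t * χ g)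
    (hS : ∑ y : S, χ y * (starRingEnd ℂ) (χ y) = ((Nat.card S * e : ℕ) : ℂ))
    (hπ : classInner (fun g : G => (Nat.card (fixedBy Ω g) : ℂ)) χ = 1) :
    ∀ g : G, g ∉ cj S → g ≠ 1 → Nat.card (fixedBy Ω g) = 1 := by
  classical
  set n := Nat.card Ω with hn
  rw [h.card, ← hn] at he hS
  have hn0 : 0 < n := Nat.card_pos
  have he0 : 0 < e := by
    have : 0 < Nat.card (normalizer (S : Set G)) := Nat.card_pos
    rw [he] at this
    exact Nat.pos_of_mul_pos_left this
  have htR : (0 : ℝ) < t := by exact_mod_cast (by omega : 0 < t)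
  have htC : (t : ℂ) ≠ 0 := by exact_mod_cast (by omega : t ≠ 0)
  have hnR : (0 : ℝ) < n := by exact_mod_cast hn0
  have heR : (0 : ℝ) < e := by exact_mod_cast he0
  have hteR : (t : ℝ) * e + 1 = n := by exact_mod_cast hte
  have hch := H6.irr_isCharacter hχ
  have hcl : ∀ x g : G, χ (x * g * x⁻¹) = χ g := fun x g => H6.irr_isClassFunction hχ g x
  let π : G → ℝ := fun g => Nat.card (fixedBy Ω g)
  let c : G → ℝ := fun g => (π g - 1) / t
  have hπc : ∀ g, π g = 1 + t * c g := fun g => by simp only [c]; field_simp; ring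
  have hc : ∀ g, g ∉ cj S → χ g = c g := by
    intro g hg
    have := hoff g hg
    simp only [c, π]
    push_cast
    rw [this]; field_simp; ring
  have h1 : (1 : G) ∉ cj S := by
    rintro ⟨x, y, _, hy, h1⟩
    apply hy
    have : y = x⁻¹ * 1 * x := by rw [h1]; group
    simpa using this
  have hπ1 : π 1 = n := by
    simp only [π, hn]
    congr 1
    rw [fixedBy_one_eq_univ, Nat.card_univ]
  have hc1 : c 1 = e := by
    have := hπc 1
    rw [hπ1, ← hteR] at this
    exact (mul_left_cancel₀ htR.ne' (by linarith)).symm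
  have hχ1 : χ 1 = e := by rw [hc 1 h1, hc1]; simp
  have hπn : ∀ g, π g ≤ n := fun g => by
    simp only [π, hn]
    exact_mod_cast Finite.card_subtype_le _
  have hce : ∀ g, c g ≤ e := fun g => by
    have := hπn g
    rw [hπc, ← hteR] at this
    exact le_of_mul_le_mul_left (by linarith) htR
  set U := Finset.univ.filter (fun g : G => g ∉ cj S) with hU
  have hmU : ∀ g, g ∈ U ↔ g ∉ cj S := fun g => by simp [hU]
  set N : ℝ := (Nat.card G : ℝ) with hN
  have hN0 : 0 < N := by rw [hN]; exact_mod_cast Nat.card_pos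
  have hNC : (Nat.card G : ℂ) = (N : ℂ) := by simp [hN]
  -- second moment
  have e2 : n * ∑ g ∈ U, c g ^ 2 = N * e := by
    have a1 := H6.card_mul_classInner χ χ
    rw [H6.irr_inner_self hχ, mul_one, C3.split (cj S)] at a1
    have a2 := ti_sum h (fun g => χ g * (starRingEnd ℂ) (χ g)) (fun x g => by simp only [hcl])
    rw [he, hS, hχ1] at a2
    have a3 : ∑ g ∈ U, χ g * (starRingEnd ℂ) (χ g) = ((∑ g ∈ U, c g ^ 2 : ℝ) : ℂ) := by
      push_cast
      refine Finset.sum_congr rfl fun g hg => ?_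
      rw [hc g ((hmU g).mp hg), Complex.conj_ofReal]; ring
    rw [← hU, a3] at a1
    rw [hNC] at a1 a2
    have a4 : ((e * (n * ∑ g ∈ U, c g ^ 2) : ℝ) : ℂ) = ((e * (N * e) : ℝ) : ℂ) := by
      simp only [map_natCast] at a2
      push_cast at a1 a2 ⊢
      linear_combination (-(n * e : ℂ)) * a1 - a2
    exact mul_left_cancel₀ heR.ne' (by exact_mod_cast a4)
  -- third moment
  obtain ⟨a, ha⟩ := H6.char_inner_nat (H6.isCharacter_mul hch (H6.isCharacter_conj hch)) hch
  have : Fintype (normalizer (S : Set G)) := Fintype.ofFinite _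
  obtain ⟨b, hb⟩ := H6.char_inner_nat
    (H6.isCharacter_restrict (normalizer (S : Set G)) (H6.isCharacter_mul hch (H6.isCharacter_conj hch)))
    (H6.isCharacter_restrict (normalizer (S : Set G)) hch)
  have e3 : n * ∑ g ∈ U, c g ^ 3 = N * (n * (a - b) + e ^ 2) := by
    have a1 := H6.card_mul_classInner (χ * fun g => (starRingEnd ℂ) (χ g)) χ
    rw [ha, C3.split (cj S)] at a1
    have a2 := ti_sum h (fun g => (χ * fun g => (starRingEnd ℂ) (χ g)) g * (starRingEnd ℂ) (χ g))
      (fun x g => by simp only [Pi.mul_apply, hcl])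
    have a5 := H6.card_mul_classInner (fun x : normalizer (S : Set G) => (χ * fun g => (starRingEnd ℂ) (χ g)) x)
      (fun x : normalizer (S : Set G) => χ x)
    rw [hb, C3.sum_sub (normalizer (S : Set G)) S le_normalizer
      (fun g => (χ * fun g => (starRingEnd ℂ) (χ g)) g * (starRingEnd ℂ) (χ g)) (fun u hu huS => by
        have b1 := fix_one h hu huS
        have b2 : u ∉ cj S := fun hh => by
          have := fix_zero h hh
          omega
        have b3 : c u = 0 := by simp only [c, π, b1]; simp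
        simp [hc u b2, b3])] at a5
    rw [← a5, he] at a2
    have a3 : ∑ g ∈ U, (χ * fun g => (starRingEnd ℂ) (χ g)) g * (starRingEnd ℂ) (χ g) =
        ((∑ g ∈ U, c g ^ 3 : ℝ) : ℂ) := by
      push_cast
      refine Finset.sum_congr rfl fun g hg => ?_
      rw [Pi.mul_apply, hc g ((hmU g).mp hg), Complex.conj_ofReal]; ring
    rw [← hU, a3] at a1
    rw [hNC] at a1 a2
    have a4 : ((e * (n * ∑ g ∈ U, c g ^ 3) : ℝ) : ℂ) = ((e * (N * (n * (a - b) + e ^ 2)) : ℝ) : ℂ) := by
      simp only [Pi.mul_apply, hχ1, map_natCast] at a1 a2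
      push_cast at a1 a2 ⊢
      linear_combination (-(n * e : ℂ)) * a1 - a2
    exact mul_left_cancel₀ heR.ne' (by exact_mod_cast a4)
  have e4 : ∑ g ∈ U, c g ^ 2 * (e - c g) = N * (b - a) := by
    have : ∑ g ∈ U, c g ^ 2 * (e - c g) = e * ∑ g ∈ U, c g ^ 2 - ∑ g ∈ U, c g ^ 3 := by
      rw [Finset.mul_sum, ← Finset.sum_sub_distrib]
      exact Finset.sum_congr rfl fun g _ => by ring
    rw [this]
    apply mul_left_cancel₀ hnR.ne'
    linear_combination e * e2 - e3
  have hnn : ∀ g ∈ U, 0 ≤ c g ^ 2 * (e - c g) := fun g _ => mul_nonneg (sq_nonneg _) (sub_nonneg.mpr (hce g))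
  rcases le_or_gt b a with hab | hab
  · have hab' : (b : ℝ) ≤ a := by exact_mod_cast hab
    have z0 : ∑ g ∈ U, c g ^ 2 * (e - c g) = 0 :=
      le_antisymm (by rw [e4]; nlinarith) (Finset.sum_nonneg hnn)
    rw [Finset.sum_eq_zero_iff_of_nonneg hnn] at z0
    intro g hg hg1
    rcases mul_eq_zero.mp (z0 g ((hmU g).mpr hg)) with h0 | h0
    · have h2 : c g = 0 := pow_eq_zero_iff (by norm_num) |>.mp h0
      have h3 := hπc g
      rw [h2, mul_zero, add_zero] at h3
      simp only [π] at h3
      exact_mod_cast h3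
    · exfalso
      apply hg1
      have h3 := hπc g
      rw [show c g = e by linarith] at h3
      have h4 : Nat.card (fixedBy Ω g) = Nat.card Ω := by
        have : π g = n := by linarith
        simp only [π] at this
        exact_mod_cast this
      have h5 : fixedBy Ω g = Set.univ := Set.eq_univ_iff_ncard _ |>.mpr h4
      exact FaithfulSMul.eq_of_smul_eq_smul (α := Ω) fun ω => by
        have : ω ∈ fixedBy Ω g := by rw [h5]; trivial
        rw [one_smul]; exact this
  · exfalso
    have hab' : (a : ℝ) + 1 ≤ b := by exact_mod_cast hab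
    have hπ0 : ∀ g, g ∉ U → π g = 0 := fun g hg => by
      rw [hmU, not_not] at hg
      simp only [π, fix_zero h hg, Nat.cast_zero]
    have f0 : ∑ g ∈ U, π g = N := by
      have htr : IsPretransitive G Ω := ⟨fun x y => by
        obtain ⟨s, hs⟩ := h.tr.exists_smul_eq x y
        exact ⟨s, hs⟩⟩
      have := H75.sum_card_fixedBy G Ω
      rw [H75.card_orbits_eq_one htr, one_mul] at this
      rw [hN, ← this, Finset.sum_subset (Finset.subset_univ U) (fun g _ hg => hπ0 g hg)]
      simp only [π, Nat.cast_sum]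
    have f1 : ∑ g ∈ U, π g * c g = N := by
      have a1 := H6.card_mul_classInner (fun g : G => (Nat.card (fixedBy Ω g) : ℂ)) χ
      rw [hπ, mul_one, hNC, ← Finset.sum_subset (Finset.subset_univ U) (fun g _ hg => by
        have : (Nat.card (fixedBy Ω g) : ℝ) = 0 := hπ0 g hg
        have h2 : Nat.card (fixedBy Ω g) = 0 := by exact_mod_cast this
        rw [h2, Nat.cast_zero, zero_mul])] at a1
      have a3 : ((∑ g ∈ U, π g * c g : ℝ) : ℂ) = (N : ℂ) := by
        rw [a1]
        push_cast
        refine Finset.sum_congr rfl fun g hg => ?_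
        rw [hc g ((hmU g).mp hg), Complex.conj_ofReal]; simp only [π, Complex.ofReal_natCast]
      exact_mod_cast a3
    have f2 : ∑ g ∈ U, π g * c g ^ 2 = N * (e - t * (b - a)) := by
      have : ∑ g ∈ U, π g * c g ^ 2 = ∑ g ∈ U, c g ^ 2 + t * ∑ g ∈ U, c g ^ 3 := by
        rw [Finset.mul_sum, ← Finset.sum_add_distrib]
        exact Finset.sum_congr rfl fun g _ => by rw [hπc g]; ring
      rw [this]
      apply mul_left_cancel₀ hnR.ne'
      linear_combination e2 + t * e3 + N * e * hteR
    have f3 : ∑ g ∈ U, π g * (c g - 1) ^ 2 = N * (e - 1 - t * (b - a)) := by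
      have : ∑ g ∈ U, π g * (c g - 1) ^ 2 =
          ∑ g ∈ U, π g * c g ^ 2 - 2 * ∑ g ∈ U, π g * c g + ∑ g ∈ U, π g := by
        rw [Finset.mul_sum, ← Finset.sum_sub_distrib, ← Finset.sum_add_distrib]
        exact Finset.sum_congr rfl fun g _ => by ring
      rw [this, f0, f1, f2]; ring
    have f4 : π 1 * (c 1 - 1) ^ 2 ≤ ∑ g ∈ U, π g * (c g - 1) ^ 2 :=
      Finset.single_le_sum (f := fun g => π g * (c g - 1) ^ 2)
        (fun g _ => mul_nonneg (Nat.cast_nonneg _) (sq_nonneg _)) ((hmU 1).mpr h1)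
    rw [f3, hπ1, hc1] at f4
    have hleR : (e : ℝ) ≤ t + 1 := by exact_mod_cast hle
    have f5 : (e : ℝ) - 1 - t * (b - a) ≤ e - 1 - t := by nlinarith
    have f6 := mul_le_mul_of_nonneg_left f5 hN0.le
    have f7 : N * (e - 1 - t) ≤ 0 := mul_nonpos_of_nonneg_of_nonpos hN0.le (by linarith)
    have f8 : ((e : ℝ) - 1) ^ 2 ≤ 0 := by
      by_contra hh
      push Not at hh
      have := mul_pos hnR hh
      linarith
    have f9 : (e : ℝ) - 1 = 0 := pow_eq_zero_iff (n := 2) (by norm_num) |>.mp (le_antisymm f8 (sq_nonneg _))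
    rw [f9] at f4 f6
    have := mul_pos hN0 htR
    nlinarith

end H38.Drg
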