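import Mathlib
import Cfsg.Agent.Lib.Drg.Defs
import Cfsg.Agent.Lib.Perm75.Derange

namespace H38.Drg
open Subgroup MulAction

variable {G Ω : Type*} [Group G] [Finite G] [MulAction G Ω] [Finite Ω]

namespace FP

omit [Finite G] in
theorem card_rel (N L : Subgroup G) : N.relIndex L * Nat.card (L ⊓ N : Subgroup G) = Nat.card L := by
  rw [← Subgroup.index_mul_card (N.subgroupOf L), ← Subgroup.inf_subgroupOf_left,
    Nat.card_congr (Subgroup.subgroupOfEquivOfLe (inf_le_left : L ⊓ N ≤ L)).toEquiv,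
    Subgroup.inf_subgroupOf_left]
  rfl

omit [Finite G] [Finite Ω] in
theorem orb_card (L : Subgroup G) (γ : Ω) :
    (orbit L γ).ncard * Nat.card (L ⊓ stabilizer G γ : Subgroup G) = Nat.card L := by
  rw [← card_rel (stabilizer G γ) L, ← MulAction.index_stabilizer]
  rfl

omit [Finite G] in
theorem card_sup (N : Subgroup G) [N.Normal] {L : Subgroup G} (hL : L ⊔ N = ⊤) :
    N.index * Nat.card (L ⊓ N : Subgroup G) = Nat.card L := by
  rw [← card_rel N L, ← Subgroup.relIndex_sup_right L N, hL, Subgroup.relIndex_top_right]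

omit [Finite G] [Finite Ω] in
theorem fix_uniq {N : Subgroup G} (h : ∀ g : G, g ∉ N → Nat.card (fixedBy Ω g) = 1) {g : G}
    (hg : g ∉ N) : ∃ β : Ω, ∀ γ, g • γ = γ ↔ β = γ := by
  obtain ⟨h1, ⟨β, hβ⟩⟩ := Nat.card_eq_one_iff_unique.1 (h g hg)
  exact ⟨β, fun γ => ⟨fun e => congrArg Subtype.val (h1.elim ⟨β, hβ⟩ ⟨γ, e⟩), fun e => e ▸ hβ⟩⟩

omit [Finite Ω] in
theorem diff_card (N K : Subgroup G) :
    Nat.card (K ⊓ N : Subgroup G) + {g | g ∈ K ∧ g ∉ N}.ncard = Nat.card K :=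
  Set.ncard_inter_add_ncard_sdiff_eq_ncard (K : Set G) N

theorem count (N : Subgroup G) [N.Normal] (L : Subgroup G) (f : G → Ω)
    (hf : ∀ g, g ∉ N → ∀ γ, g • γ = γ ↔ f g = γ) (β : Ω) :
    {g | (g ∈ L ∧ g ∉ N) ∧ f g ∈ orbit L β}.ncard =
      (orbit L β).ncard * {g | g ∈ L ⊓ stabilizer G β ∧ g ∉ N}.ncard := by
  classical
  rw [Set.ncard_eq_toFinset_card _ (Set.toFinite _), Finset.card_eq_sum_card_fiberwise
    (f := f) (t := (Set.toFinite (orbit L β)).toFinset) (fun g hg => by simpa using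
      ((Set.Finite.mem_toFinset _).1 hg).2), Set.ncard_eq_toFinset_card (orbit L β),
    ← smul_eq_mul, ← Finset.sum_const]
  refine Finset.sum_congr rfl fun γ hγ => ?_
  obtain ⟨l, rfl⟩ := (Set.Finite.mem_toFinset _).1 hγ
  rw [← Set.ncard_coe_finset]
  symm
  refine Set.ncard_congr (fun g _ => l * g * (l : G)⁻¹) ?_ ?_ ?_
  · rintro g ⟨⟨h1, h2⟩, h3⟩
    have n : (l : G) * g * (l : G)⁻¹ ∉ N := fun e => h3 (by
      simpa [mul_assoc] using ‹N.Normal›.conj_mem _ e (l : G)⁻¹)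
    have e : f (l * g * (l : G)⁻¹) = l • β := (hf _ n _).1 (by
      rw [Subgroup.smul_def, mul_smul, mul_smul, inv_smul_smul, show g • β = β from h2])
    simp only [Finset.coe_filter, Set.Finite.mem_toFinset, Set.mem_ofPred_eq]
    exact ⟨⟨⟨mul_mem (mul_mem l.2 h1) (inv_mem l.2), n⟩, e ▸ mem_orbit _ _⟩, e⟩
  · intro a b _ _ e
    exact mul_left_cancel (mul_right_cancel e)
  · intro g hg
    simp only [Finset.coe_filter, Set.Finite.mem_toFinset, Set.mem_ofPred_eq] at hg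
    obtain ⟨⟨⟨h1, h2⟩, -⟩, h3⟩ := hg
    have h4 := (hf g h2 _).2 h3
    refine ⟨(l : G)⁻¹ * g * l, ⟨⟨L.mul_mem (L.mul_mem (L.inv_mem l.2) h1) l.2, ?_⟩, fun e => h2 ?_⟩,
      by group⟩
    · rw [Subgroup.smul_def] at h4
      change ((l : G)⁻¹ * g * l) • β = β
      rw [mul_smul, mul_smul, h4, inv_smul_smul]
    · simpa [mul_assoc] using ‹N.Normal›.conj_mem _ e (l : G)

theorem half (N : Subgroup G) [N.Normal] (L : Subgroup G) (f : G → Ω)
    (hf : ∀ g, g ∉ N → ∀ γ, g • γ = γ ↔ f g = γ) {β : Ω} (h : ¬ L ⊓ stabilizer G β ≤ N) :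
    Nat.card L ≤ 2 * {g | (g ∈ L ∧ g ∉ N) ∧ f g ∈ orbit L β}.ncard := by
  rw [count N L f hf, ← orb_card L β, mul_left_comm]
  refine Nat.mul_le_mul_left _ ?_
  have h1 := diff_card N (L ⊓ stabilizer G β)
  have h2 := card_rel N (L ⊓ stabilizer G β)
  have h3 : N.relIndex (L ⊓ stabilizer G β) ≠ 1 := fun e => h (Subgroup.relIndex_eq_one.1 e)
  have h4 : N.relIndex (L ⊓ stabilizer G β) ≠ 0 := Subgroup.index_ne_zero_of_finite
  have h5 : 2 * Nat.card (L ⊓ stabilizer G β ⊓ N : Subgroup G) ≤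
      Nat.card (L ⊓ stabilizer G β : Subgroup G) := h2 ▸ Nat.mul_le_mul_right _ (by omega)
  omega

end FP

open _root_.H38.Drg.FP

/-- exactly one orbit of a supplement `L` of `N` carries all fixed points of `L ∖ N` -/
theorem fp (N : Subgroup G) [N.Normal] (h : ∀ g : G, g ∉ N → Nat.card (fixedBy Ω g) = 1)
    (hN : N ≠ ⊤) (L : Subgroup G) (hL : L ⊔ N = ⊤) :
    ∃ β : Ω, (L ⊓ stabilizer G β) ⊔ N = ⊤ ∧
      ∀ γ : Ω, γ ∉ orbit L β → L ⊓ stabilizer G γ ≤ N := by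
  classical
  obtain ⟨g0, g1, g2⟩ : ∃ g ∈ L, g ∉ N := by
    by_contra hc
    push Not at hc
    exact hN (by rw [← hL]; exact (sup_eq_right.2 hc).symm)
  obtain ⟨β, hβ⟩ := fix_uniq h g2
  obtain ⟨f, hf⟩ : ∃ f : G → Ω, ∀ g, g ∉ N → ∀ γ, g • γ = γ ↔ f g = γ :=
    ⟨fun g => if hg : g ∉ N then (fix_uniq h hg).choose else β, fun g hg γ => by
      simp only [dif_pos hg]; exact (fix_uniq h hg).choose_spec γ⟩
  have b0 : ¬ L ⊓ stabilizer G β ≤ N := fun e => g2 (e ⟨g1, (hβ β).2 rfl⟩)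
  have d1 := diff_card N L
  have p1 : 0 < Nat.card (L ⊓ N : Subgroup G) := Nat.card_pos
  have key : ∀ γ : Ω, γ ∉ orbit L β → L ⊓ stabilizer G γ ≤ N := by
    intro γ hγ
    by_contra hc
    have a1 := half N L f hf b0
    have a2 := half N L f hf hc
    have a3 := Set.ncard_union_eq (s := {g | (g ∈ L ∧ g ∉ N) ∧ f g ∈ orbit L β})
      (t := {g | (g ∈ L ∧ g ∉ N) ∧ f g ∈ orbit L γ}) (Set.disjoint_left.2 fun g e1 e2 => hγ (by
        rw [← orbit_eq_iff.2 e1.2, orbit_eq_iff.2 e2.2]; exact mem_orbit_self γ))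
    have a4 := Set.ncard_le_ncard (s := {g | (g ∈ L ∧ g ∉ N) ∧ f g ∈ orbit L β} ∪
      {g | (g ∈ L ∧ g ∉ N) ∧ f g ∈ orbit L γ}) (t := {g | g ∈ L ∧ g ∉ N})
      (fun g hg => hg.elim And.left And.left)
    omega
  refine ⟨β, ?_, key⟩
  have e1 : {g | (g ∈ L ∧ g ∉ N) ∧ f g ∈ orbit L β} = {g | g ∈ L ∧ g ∉ N} := by
    refine Set.ext fun g => ⟨And.left, fun hg => ⟨hg, ?_⟩⟩
    by_contra hc
    exact hg.2 (key _ hc ⟨hg.1, (hf g hg.2 _).2 rfl⟩)
  have c1 := count N L f hf β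
  rw [e1] at c1
  have c2 := orb_card L β
  have c3 := diff_card N (L ⊓ stabilizer G β)
  have c4 := card_sup N hL
  have c5 := card_rel N (L ⊓ stabilizer G β)
  have p2 : 0 < Nat.card (L ⊓ stabilizer G β ⊓ N : Subgroup G) := Nat.card_pos
  have c6 : N.relIndex (L ⊓ stabilizer G β) = N.index := by
    generalize N.relIndex (L ⊓ stabilizer G β) = h at *
    generalize Nat.card (L ⊓ stabilizer G β ⊓ N : Subgroup G) = c at *
    generalize Nat.card (L ⊓ stabilizer G β : Subgroup G) = b at *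
    generalize Nat.card (L ⊓ N : Subgroup G) = M at *
    generalize (orbit L β).ncard = a at *
    have c7 : M = a * c := by
      have : a * c + a * {g | g ∈ L ⊓ stabilizer G β ∧ g ∉ N}.ncard = a * b := by
        rw [← mul_add, c3]
      omega
    refine Nat.eq_of_mul_eq_mul_right p1 ?_
    rw [c4, ← c2, ← c5, c7]; ring
  have c8 := Subgroup.relIndex_mul_index (le_sup_right : N ≤ L ⊓ stabilizer G β ⊔ N)
  rw [Subgroup.relIndex_sup_right, c6] at c8
  exact Subgroup.index_eq_one.1 (Nat.eq_of_mul_eq_mul_left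
    (Nat.pos_of_ne_zero Subgroup.index_ne_zero_of_finite) (c8.trans (mul_one _).symm))

/-- orbit length when the stabiliser lies in `N` -/
theorem orb_mul (N : Subgroup G) [N.Normal] (L : Subgroup G) (hL : L ⊔ N = ⊤) (γ : Ω)
    (hγ : L ⊓ stabilizer G γ ≤ N) :
    (orbit L γ).ncard = N.index * (orbit (L ⊓ N : Subgroup G) γ).ncard := by
  have c1 := orb_card L γ
  have c2 := orb_card (L ⊓ N) γ
  have e : L ⊓ N ⊓ stabilizer G γ = L ⊓ stabilizer G γ := by
    rw [inf_right_comm]; exact inf_eq_left.2 hγ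
  rw [e] at c2
  refine Nat.eq_of_mul_eq_mul_right (Nat.card_pos (α := (L ⊓ stabilizer G γ : Subgroup G))) ?_
  rw [c1, mul_assoc, c2, card_sup N hL]

/-- `T` fixes `β`, normalises `S` and covers `G / N`: the `S`-orbit of `β` has more than `r` points -/
theorem orb_big (N : Subgroup G) [N.Normal] (h : ∀ g : G, g ∉ N → Nat.card (fixedBy Ω g) = 1)
    (S : Subgroup G) (β : Ω) (hT : (normalizer (S : Set G) ⊓ stabilizer G β) ⊔ N = ⊤)
    (hS : ¬ S ≤ stabilizer G β) : N.index + 1 ≤ (orbit S β).ncard := by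
  obtain ⟨s, hs, hn⟩ := SetLike.not_le_iff_exists.1 hS
  have hn' : s • β ≠ β := hn
  have c1 := orb_mul N _ hT (s • β) (fun g hg => by
    by_contra hc
    obtain ⟨δ, hδ⟩ := fix_uniq h hc
    exact hn' (((hδ _).1 hg.2).symm.trans ((hδ _).1 hg.1.2)))
  have c2 : 0 < (orbit (normalizer (S : Set G) ⊓ stabilizer G β ⊓ N : Subgroup G) (s • β)).ncard :=
    (Set.ncard_pos (Set.toFinite _)).2 ⟨_, mem_orbit_self _⟩
  have c3 : orbit (normalizer (S : Set G) ⊓ stabilizer G β : Subgroup G) (s • β) ⊆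
      orbit S β \ {β} := by
    rintro _ ⟨⟨t, t1, t2⟩, rfl⟩
    have t3 : t • β = β := t2
    refine ⟨⟨⟨t * s * t⁻¹, (mem_normalizer_iff.1 t1 s).1 hs⟩, ?_⟩, fun e => hn' ?_⟩
    · change (t * s * t⁻¹) • β = t • s • β
      rw [mul_smul, mul_smul, inv_smul_eq_iff.2 t3.symm]
    · exact smul_left_cancel t (Eq.trans e t3.symm)
  have c4 := Set.ncard_le_ncard c3
  have c5 := Set.ncard_sdiff_singleton_add_one (mem_orbit_self (M := S) β)
  have c6 : N.index * 1 ≤ _ := Nat.mul_le_mul_left N.index c2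
  omega

end H38.Drg
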