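import Mathlib
import Cfsg.Agent.Lib.Drg.Defs
import Cfsg.Agent.Lib.Drg.FP

namespace H38.Drg.ST1
open Subgroup MulAction

variable {G Ω : Type*} [Group G] [Finite G] [MulAction G Ω]

theorem frat {H K : Subgroup G} (hK : K ≤ H) (hn : H ≤ normalizer (K : Set G)) {q : ℕ}
    (hq : q.Prime) : ∃ Q : Subgroup G, Q ≤ K ∧ Nat.card Q = q ^ (Nat.card K).factorization q ∧
      H ≤ (H ⊓ normalizer (Q : Set G)) ⊔ K := by
  have := Fact.mk hq
  have : (K.subgroupOf H).Normal := (normal_subgroupOf_iff_le_normalizer hK).2 hn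
  obtain ⟨P⟩ : Nonempty (Sylow q (K.subgroupOf H)) := inferInstance
  refine ⟨((P : Subgroup (K.subgroupOf H)).map (K.subgroupOf H).subtype).map H.subtype, ?_, ?_, ?_⟩
  · rintro _ ⟨_, ⟨x, -, rfl⟩, rfl⟩
    exact x.2
  · rw [card_map_of_injective H.subtype_injective, card_map_of_injective (subtype_injective _),
      P.card_eq_multiplicity, Nat.card_congr (subgroupOfEquivOfLe hK).toEquiv]
  · have h1 := congrArg (Subgroup.map H.subtype) P.normalizer_sup_eq_top
    rw [Subgroup.map_sup, ← MonoidHom.range_eq_map, range_subtype] at h1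
    refine h1.ge.trans (sup_le_sup (le_inf (map_subtype_le _) (le_normalizer_map _)) ?_)
    rw [subgroupOf_map_subtype]
    exact inf_le_left

theorem card_le {R K : Subgroup G} {q : ℕ} (hq : q.Prime) (hR : IsPGroup q R) (h : R ≤ K) :
    Nat.card R ≤ q ^ (Nat.card K).factorization q := by
  have := Fact.mk hq
  obtain ⟨k, hk⟩ := IsPGroup.iff_card.1 hR
  rw [hk]
  refine Nat.pow_le_pow_right hq.pos ((hq.pow_dvd_iff_le_factorization Nat.card_pos.ne').1 ?_)
  rw [← hk]
  exact card_dvd_of_le h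

omit [Finite G] in
theorem os (S : Subgroup G) (γ : Ω) :
    (orbit S γ).ncard * Nat.card (S ⊓ stabilizer G γ : Subgroup G) = Nat.card S := by
  rw [← index_stabilizer, ← Nat.card_congr (subgroupOfEquivOfLe
    (inf_le_left : S ⊓ stabilizer G γ ≤ S)).toEquiv, inf_subgroupOf_left]
  exact index_mul_card _

end H38.Drg.ST1

namespace H38.Drg
open Subgroup MulAction

variable {G Ω : Type*} [Group G] [Finite G] [MulAction G Ω] [Finite Ω]

/-- a prime dividing both the degree and the order of `N_α` -/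
theorem prime_both [FaithfulSMul G Ω] (N : Subgroup G) [N.Normal] (htr : IsPretransitive N Ω)
    (h : ∀ g : G, g ∉ N → Nat.card (fixedBy Ω g) = 1) (hN : N ≠ ⊤) {q : ℕ} (hq : q.Prime)
    (hqn : q ∣ Nat.card Ω) (α : Ω) (hqK : q ∣ Nat.card (N ⊓ stabilizer G α : Subgroup G)) :
    (N.index + 1) ^ 2 ≤ Nat.card Ω := by
  have := Fact.mk hq
  have hn0 : 0 < Nat.card Ω := Nat.card_pos_iff.2 ⟨⟨α⟩, inferInstance⟩
  have hNγ : ∀ γ : Ω, Nat.card Ω * Nat.card (N ⊓ stabilizer G γ : Subgroup G) = Nat.card N :=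
    fun γ => by rw [← ST1.os N γ, orbit_eq_univ, Set.ncard_univ]
  have hn : ∀ H : Subgroup G, H ≤ normalizer ((N ⊓ H : Subgroup G) : Set G) := fun H =>
    (normal_subgroupOf_iff_le_normalizer inf_le_right).1 (by rw [inf_subgroupOf_right]; infer_instance)
  have htop : ∀ H : Subgroup G, H ⊔ N = ⊤ → ¬ H ≤ N := fun H h1 h2 =>
    hN (by rwa [sup_eq_right.2 h2] at h1)
  obtain ⟨Q, hQK, hQc, hQ⟩ := ST1.frat inf_le_right (hn (stabilizer G α)) hq
  set a := (Nat.card (N ⊓ stabilizer G α : Subgroup G)).factorization q with ha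
  have hQp : IsPGroup q Q := IsPGroup.of_card hQc
  have hmax : ∀ (R : Subgroup G) (γ : Ω), IsPGroup q R → R ≤ N ⊓ stabilizer G γ →
      Nat.card R ≤ Nat.card Q := fun R γ h1 h2 => by
    have := ST1.card_le hq h1 h2
    rwa [Nat.eq_of_mul_eq_mul_left hn0 ((hNγ γ).trans (hNγ α).symm), ← ha, ← hQc] at this
  set L := normalizer (Q : Set G) with hL
  have h1 : (L ⊓ stabilizer G α) ⊔ N = ⊤ := by
    rw [eq_top_iff]
    intro g _
    obtain ⟨n, hn⟩ := htr.exists_smul_eq α (g • α)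
    have : (n : G)⁻¹ * g ∈ stabilizer G α := by
      rw [mem_stabilizer_iff, mul_smul, ← hn]
      exact inv_smul_smul _ _
    have h2 := (sup_le_sup (inf_comm _ _).le inf_le_left : _ ≤ (L ⊓ stabilizer G α) ⊔ N) (hQ this)
    simpa using Subgroup.mul_mem _ (mem_sup_right n.2) h2
  have hLN : L ⊔ N = ⊤ := top_le_iff.1 (h1.ge.trans (sup_le_sup_right inf_le_left _))
  obtain ⟨β0, -, hβ0⟩ := fp N h hN L hLN
  have hα : α ∈ orbit L β0 := by
    by_contra hh
    exact htop _ h1 (hβ0 α hh)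
  rw [← orbit_eq_iff.2 hα] at hβ0
  have hfix : ∀ γ ∈ orbit L α, Q ≤ stabilizer G γ := by
    rintro _ ⟨l, rfl⟩ x hx
    have : (l : G)⁻¹ * x * l ∈ Q := (mem_normalizer_iff''.1 l.2 x).1 hx
    have h2 : ((l : G)⁻¹ * x * l) • α = α := (hQK this).2
    change x • (l : G) • α = (l : G) • α
    rwa [mul_smul, mul_smul, inv_smul_eq_iff] at h2
  obtain ⟨γ, hγ⟩ : ∃ γ : Ω, ¬ Q ≤ stabilizer G γ := by
    by_contra hh
    push Not at hh
    have : Q = ⊥ := (eq_bot_iff_forall _).2 fun x hx =>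
      eq_of_smul_eq_smul (α := Ω) fun γ => by rw [one_smul]; exact hh γ hx
    rw [this, card_bot] at hQc
    have h0 : 0 < a := hq.factorization_pos_of_dvd Nat.card_pos.ne' hqK
    have := Nat.one_lt_pow h0.ne' hq.one_lt
    omega
  obtain ⟨S, hSM, hSc, hS⟩ := ST1.frat inf_le_right (hn L) hq
  have hSp : IsPGroup q S := IsPGroup.of_card hSc
  have hQN : Q ≤ N := hQK.trans inf_le_left
  have hQS : Q ≤ S := by
    have hp : IsPGroup q (Q ⊔ S : Subgroup G) :=
      hQp.to_sup_of_normal_left' hSp (hSM.trans inf_le_right)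
    have := ST1.card_le hq hp (sup_le (le_inf hQN le_normalizer) hSM)
    rw [← hSc] at this
    exact le_sup_left.trans (eq_of_le_of_card_ge le_sup_right this).ge
  have hlt : Nat.card Q < Nat.card S := by
    have h2 : q ^ (a + 1) ∣ Nat.card N := by
      rw [← hNγ α, pow_succ']
      exact mul_dvd_mul hqn (Nat.ordProj_dvd _ _)
    have h3 := Sylow.prime_pow_dvd_card_normalizer h2 (H := Q.subgroupOf N)
      (by rw [Nat.card_congr (subgroupOfEquivOfLe hQN).toEquiv, hQc])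
    rw [← subgroupOf_normalizer_eq hQN, ← inf_subgroupOf_left,
      Nat.card_congr (subgroupOfEquivOfLe inf_le_left).toEquiv] at h3
    rw [hQc, hSc]
    exact Nat.pow_lt_pow_right hq.one_lt ((hq.pow_dvd_iff_le_factorization Nat.card_pos.ne').1 h3)
  have h2 : (L ⊓ normalizer (S : Set G)) ⊔ N = ⊤ :=
    top_le_iff.1 (hLN.ge.trans (sup_le (hS.trans (sup_le_sup_left inf_le_left _)) le_sup_right))
  obtain ⟨β, hβ, -⟩ := fp N h hN _ h2
  have hβα : β ∈ orbit L α := by
    by_contra hh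
    exact htop _ hβ ((inf_le_inf_right _ inf_le_left).trans (hβ0 β hh))
  have hSγ : ∀ γ : Ω, Nat.card (S ⊓ stabilizer G γ : Subgroup G) ≤ Nat.card Q := fun γ =>
    hmax _ γ (hSp.to_le inf_le_left) (inf_le_inf_right _ (hSM.trans inf_le_left))
  have hSβ : S ⊓ stabilizer G β = Q :=
    (eq_of_le_of_card_ge (le_inf hQS (hfix β hβα)) (hSγ β)).symm
  have h3 := orb_big N h S β (top_le_iff.1 (hβ.ge.trans
    (sup_le_sup_right (inf_le_inf_right _ inf_le_right) _))) (fun hh => by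
      rw [inf_eq_left.2 hh] at hSβ
      rw [hSβ] at hlt
      exact lt_irrefl _ hlt)
  have hγα : γ ∉ orbit L α := fun hh => hγ (hfix γ hh)
  have h4 := orb_mul N L hLN γ (hβ0 γ hγα)
  have h5 : (orbit S β).ncard ≤ (orbit S γ).ncard := by
    have e1 := ST1.os S β
    have e2 := ST1.os S γ
    rw [hSβ, ← e2] at e1
    exact Nat.le_of_mul_le_mul_right (e1.le.trans (Nat.mul_le_mul_left _ (hSγ γ))) Nat.card_pos
  have h6 : (orbit S γ).ncard ≤ (orbit (L ⊓ N : Subgroup G) γ).ncard := by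
    refine Set.ncard_le_ncard ?_
    rintro _ ⟨s, rfl⟩
    exact ⟨⟨s, (hSM s.2).2, (hSM s.2).1⟩, rfl⟩
  have h7 : (orbit S β ∪ orbit L γ).ncard ≤ Nat.card Ω := Set.ncard_le_card _
  rw [Set.ncard_union_eq, h4] at h7
  · nlinarith [Nat.mul_le_mul_left N.index (h3.trans (h5.trans h6))]
  · rw [Set.disjoint_left]
    rintro _ ⟨s, rfl⟩ hh
    apply hγα
    rw [← orbit_eq_iff.2 hβα, mem_orbit_symm, ← orbit_eq_iff.2 hh, mem_orbit_symm]
    exact ⟨⟨s, (hSM s.2).2⟩, rfl⟩

end H38.Drg
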