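import Mathlib
import Cfsg.Agent.Lib.Drg.Defs
import Cfsg.Agent.Lib.Drg.FP
import Cfsg.Agent.Lib.Drg.ST1

namespace H38.Drg
open Subgroup MulAction

variable {G Ω : Type*} [Group G] [Finite G] [MulAction G Ω] [Finite Ω]

namespace ST2

theorem key (N : Subgroup G) [N.Normal] (htr : IsPretransitive N Ω)
    (h : ∀ g : G, g ∉ N → Nat.card (fixedBy Ω g) = 1) (hN : N ≠ ⊤) (α : Ω) {q : ℕ} (hq : q.Prime)
    (hqn : q ∣ Nat.card Ω) (hK : ∀ γ : Ω, ¬ q ∣ Nat.card (N ⊓ stabilizer G γ : Subgroup G)) :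
    ∃ (S : Subgroup G) (β : Ω), S ≤ N ∧ IsPGroup q S ∧
      Nat.card S = q ^ (Nat.card Ω).factorization q ∧ (orbit S β).ncard = Nat.card S ∧
      (normalizer (S : Set G) ⊓ stabilizer G β) ⊔ N = ⊤ ∧ N.index + 1 ≤ Nat.card S := by
  haveI := Fact.mk hq
  haveI : Nonempty Ω := ⟨α⟩
  obtain ⟨P⟩ : Nonempty (Sylow q N) := inferInstance
  have c1 := FP.orb_card N α
  rw [orbit_eq_univ, Set.ncard_univ] at c1
  have hS : IsPGroup q ((P : Subgroup N).map N.subtype) := P.isPGroup'.map _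
  have hle : (P : Subgroup N).map N.subtype ≤ N := map_subtype_le _
  have c2 : Nat.card ((P : Subgroup N).map N.subtype) = q ^ (Nat.card Ω).factorization q := by
    rw [card_map_of_injective N.subtype_injective, P.card_eq_multiplicity, ← c1,
      Nat.factorization_mul Nat.card_pos.ne' Nat.card_pos.ne', Finsupp.add_apply,
      Nat.factorization_eq_zero_of_not_dvd (hK α), add_zero]
  have hT := P.normalizer_sup_eq_top
  generalize (P : Subgroup N).map N.subtype = S at hS hle c2 hT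
  obtain ⟨β, hβ, -⟩ := fp N h hN _ hT
  have c3 : Nat.card (S ⊓ stabilizer G β : Subgroup G) = 1 := by
    obtain ⟨k, hk⟩ := IsPGroup.iff_card.1 (hS.to_inf_left (K := stabilizer G β))
    rcases k with _ | k
    · simpa using hk
    · refine absurd (Dvd.dvd.trans ?_ (card_dvd_of_le (inf_le_inf_right _ hle))) (hK β)
      rw [hk]; exact dvd_pow_self q k.succ_ne_zero
  have c4 := FP.orb_card S β
  rw [c3, mul_one] at c4
  refine ⟨S, β, hle, hS, c2, c4, hβ, c4 ▸ orb_big N h S β hβ fun e => ?_⟩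
  rw [inf_eq_left.2 e, c2] at c3
  have := hq.factorization_pos_of_dvd Nat.card_pos.ne' hqn
  exact (Nat.one_lt_pow this.ne' hq.one_lt).ne' c3

end ST2

/-- reduction to a regular Sylow subgroup -/
theorem step1 [FaithfulSMul G Ω] (N : Subgroup G) [N.Normal] (htr : IsPretransitive N Ω)
    (h : ∀ g : G, g ∉ N → Nat.card (fixedBy Ω g) = 1) (hN : N ≠ ⊤) (hΩ : 2 ≤ Nat.card Ω) :
    (N.index + 1) ^ 2 ≤ Nat.card Ω ∨ ∃ (q : ℕ) (S : Subgroup G) (β : Ω), q.Prime ∧ S ≤ N ∧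
      IsPGroup q S ∧ Nat.card S = Nat.card Ω ∧ IsPretransitive S Ω ∧
      ¬ q ∣ Nat.card (N ⊓ stabilizer G β : Subgroup G) ∧
      (normalizer (S : Set G) ⊓ stabilizer G β) ⊔ N = ⊤ := by
  by_cases hc : ∃ q : ℕ, q.Prime ∧ q ∣ Nat.card Ω ∧
      ∃ α : Ω, q ∣ Nat.card (N ⊓ stabilizer G α : Subgroup G)
  · obtain ⟨q, hq, hqn, α, hα⟩ := hc
    exact Or.inl (prime_both N htr h hN hq hqn α hα)
  push Not at hc
  have n0 : Nat.card Ω ≠ 0 := by omega
  obtain ⟨α⟩ : Nonempty Ω := (Nat.card_ne_zero.1 n0).1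
  obtain ⟨q, hq, hqn⟩ := Nat.exists_prime_and_dvd (show Nat.card Ω ≠ 1 by omega)
  obtain ⟨S, β, a1, a2, a3, a4, a5, a6⟩ := ST2.key N htr h hN α hq hqn (hc q hq hqn)
  by_cases e : Nat.card S = Nat.card Ω
  · refine Or.inr ⟨q, S, β, hq, a1, a2, e, ?_, hc q hq hqn β, a5⟩
    rw [isPretransitive_iff_orbit_eq_univ β, Set.eq_univ_iff_ncard, a4, e]
  · left
    have e1 := Nat.ordProj_mul_ordCompl_eq_self (Nat.card Ω) q
    obtain ⟨p, hp, hpn⟩ := Nat.exists_prime_and_dvd (n := ordCompl[q] (Nat.card Ω)) fun e' => e (by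
      rw [e', mul_one] at e1; rw [a3, e1])
    have hne : q ≠ p := by
      rintro rfl
      exact Nat.not_dvd_ordCompl hq n0 hpn
    have hpn' : p ∣ Nat.card Ω := hpn.trans (Nat.ordCompl_dvd _ _)
    obtain ⟨S', β', -, -, b3, -, -, b6⟩ := ST2.key N htr h hN α hp hpn' (hc p hp hpn')
    have d := Nat.Coprime.mul_dvd_of_dvd_of_dvd
      (Nat.Coprime.pow _ _ ((Nat.coprime_primes hq hp).2 hne))
      (Nat.ordProj_dvd (Nat.card Ω) q) (Nat.ordProj_dvd (Nat.card Ω) p)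
    rw [sq]
    exact (Nat.mul_le_mul (a3 ▸ a6) (b3 ▸ b6)).trans (Nat.le_of_dvd (by omega) d)

end H38.Drg
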