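import Mathlib
import Cfsg.Agent.Lib.Drg.Defs
import Cfsg.Agent.Lib.Drg.A0
import Cfsg.Agent.Lib.Drg.A9
import Cfsg.Agent.Lib.Drg.ST2
import Cfsg.Agent.Lib.Drg.BU
import Cfsg.Agent.Lib.Drg.TI
import Cfsg.Agent.Lib.Drg.C2
import Cfsg.Agent.Lib.Drg.C3

namespace H38.Drg
open Subgroup MulAction

namespace Main
variable {G Ω : Type*} [Group G]

/-- conjugation action of a subgroup of the normaliser -/
@[reducible] def act (S W : Subgroup G) (hW : W ≤ normalizer (S : Set G)) :
    MulDistribMulAction W S where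
  smul w s := ⟨w * s * (w : G)⁻¹, (mem_normalizer_iff.1 (hW w.2) s).1 s.2⟩
  one_smul s := Subtype.ext (by
    show ((1 : W) : G) * s * ((1 : W) : G)⁻¹ = s
    simp)
  mul_smul a b s := Subtype.ext (by
    show ((a * b : W) : G) * s * ((a * b : W) : G)⁻¹ = a * (b * s * (b : G)⁻¹) * (a : G)⁻¹
    simp [mul_assoc])
  smul_mul w s t := Subtype.ext (by
    show (w : G) * (s * t) * (w : G)⁻¹ = (w * s * (w : G)⁻¹) * (w * t * (w : G)⁻¹)
    simp [mul_assoc])
  smul_one w := Subtype.ext (by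
    show (w : G) * 1 * (w : G)⁻¹ = 1
    simp)

variable [Finite G] [MulAction G Ω] [Finite Ω]

theorem card_of_tr (T : Subgroup G) (htr : IsPretransitive T Ω) (β : Ω) :
    Nat.card T = Nat.card Ω * Nat.card (T ⊓ stabilizer G β : Subgroup G) := by
  have h1 : (stabilizer T β).index = Nat.card Ω := index_stabilizer_of_transitive T β
  have h2 := (stabilizer T β).index_mul_card
  have h3 : Nat.card (stabilizer T β) = Nat.card (T ⊓ stabilizer G β : Subgroup G) := by
    refine Nat.card_congr ⟨fun x => ⟨x.1.1, x.1.2, x.2⟩, fun x => ⟨⟨x.1, x.2.1⟩, x.2.2⟩, ?_, ?_⟩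
    · intro x; rfl
    · intro x; rfl
  rw [← h2, h1, h3]

theorem reg_eq_one (S : Subgroup G) (htr : IsPretransitive S Ω) (hc : Nat.card S = Nat.card Ω)
    (β : Ω) {s : G} (hs : s ∈ S) (h : s • β = β) : s = 1 := by
  have h1 := card_of_tr S htr β
  have hpos : 0 < Nat.card Ω := hc ▸ Nat.card_pos
  have h2 : Nat.card (S ⊓ stabilizer G β : Subgroup G) = 1 := by
    rw [hc] at h1
    exact (Nat.eq_of_mul_eq_mul_left hpos (h1.symm.trans (mul_one _).symm))
  have h3 := Subgroup.card_eq_one.1 h2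
  have : s ∈ (S ⊓ stabilizer G β : Subgroup G) := ⟨hs, h⟩
  rw [h3] at this
  exact mem_bot.1 this

theorem eq_of_fix {g : G} (h : Nat.card (fixedBy Ω g) = 1) {a b : Ω} (ha : g • a = a)
    (hb : g • b = b) : a = b := by
  have := (Nat.card_eq_one_iff_unique.1 h).1
  exact congrArg Subtype.val (this.elim (⟨a, ha⟩ : fixedBy Ω g) ⟨b, hb⟩)

/-- the end game inside `N` -/
theorem endgame [FaithfulSMul G Ω] [Nonempty Ω] {S : Subgroup G} (h : Reg Ω S) (β : Ω) (r : ℕ)
    (hr : 1 ≤ r) (hn : Nat.card Ω < (r + 1) ^ 2)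
    (he : Nat.card (normalizer (S : Set G) ⊓ stabilizer G β : Subgroup G) * r + 1 ≤ Nat.card Ω)
    (hrk : 3 ≤ Nat.card (orbitRel.Quotient G (Ω × Ω))) :
    S.Normal ∧ ∀ g : G, g ≠ 1 → Nat.card (fixedBy Ω g) ≤ 1 := by
  classical
  haveI := Fintype.ofFinite G
  set e := Nat.card (normalizer (S : Set G) ⊓ stabilizer G β : Subgroup G) with hedef
  have htrT : IsPretransitive (normalizer (S : Set G)) Ω := by
    refine ⟨fun a b => ?_⟩
    obtain ⟨s, hs⟩ := h.tr.exists_smul_eq a b
    exact ⟨⟨s.1, le_normalizer s.2⟩, hs⟩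
  have hT : Nat.card (normalizer (S : Set G)) = Nat.card S * e := by
    rw [card_of_tr _ htrT β, h.card]
  obtain ⟨χ, t, hχ, ht, hte, hoff, hS, hπ⟩ := equal_deg h hT hrk
  have hepos : 0 < e := Nat.card_pos
  have hrt : r ≤ t := by
    have : e * r ≤ e * t := by nlinarith
    exact Nat.le_of_mul_le_mul_left this hepos
  have her : e ≤ r + 1 := by
    by_contra hc
    have h2 : r + 2 ≤ e := by omega
    have : (r + 2) * r ≤ e * r := Nat.mul_le_mul_right r h2
    nlinarith
  have h1 := cubic h hT χ t hχ ht hte (by omega) hoff hS hπ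
  refine ⟨normal_of_fix h h1, fun g hg => ?_⟩
  by_cases hc : g ∈ cj S
  · rw [fix_zero h hc]; exact Nat.zero_le _
  · exact (h1 g hc hg).le

end Main

open Main

variable {G Ω : Type*} [Group G] [Finite G] [MulAction G Ω] [Finite Ω]

theorem main [FaithfulSMul G Ω] (N : Subgroup G) [N.Normal] (htr : IsPretransitive N Ω)
    (h : ∀ g : G, g ∉ N → Nat.card (fixedBy Ω g) = 1) (hN : N ≠ ⊤) (hΩ : 2 ≤ Nat.card Ω)
    (hrk : 3 ≤ Nat.card (orbitRel.Quotient N (Ω × Ω))) :
    (N.index + 1) ^ 2 ≤ Nat.card Ω ∨ ∃ S : Subgroup G, S.Normal ∧ S ≠ ⊥ ∧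
      (∀ a ∈ S, ∀ b ∈ S, a * b = b * a) ∧ ∀ g : G, g ≠ 1 → Nat.card (fixedBy Ω g) ≤ 1 := by
  classical
  rcases step1 N htr h hN hΩ with hb | ⟨q, S, β, hq, hSN, hSq, hSc, hStr, hqK, hcov⟩
  · exact Or.inl hb
  by_cases hb : (N.index + 1) ^ 2 ≤ Nat.card Ω
  · exact Or.inl hb
  right
  haveI : Fact q.Prime := ⟨hq⟩
  haveI : Nonempty Ω := ⟨β⟩
  set W : Subgroup G := normalizer (S : Set G) ⊓ stabilizer G β with hWdef
  letI : MulDistribMulAction W S := act S W inf_le_left
  have hsm : ∀ (w : W) (s : S), ((w • s : S) : G) = w * s * (w : G)⁻¹ := fun _ _ => rfl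
  set K : Subgroup W := N.subgroupOf W with hKdef
  have hKi : K.index = N.index := by
    have : N.relIndex W = N.relIndex (W ⊔ N) := (relIndex_sup_right W N).symm
    rw [hcov, relIndex_top_right] at this
    exact this
  have hfixs : ∀ (w : W) (s : S), w • s = s → (w : G) • ((s : G) • β) = (s : G) • β := by
    intro w s hs
    have h1 : (w : G) * s * (w : G)⁻¹ = s := by rw [← hsm, hs]
    have h2 : (w : G) • β = β := w.2.2
    have h3 : (w : G) * s = s * w := mul_inv_eq_iff_eq_mul.1 h1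
    rw [← mul_smul, h3, mul_smul, h2]
  have hO : Out S K := by
    refine ⟨fun w hw => ?_, fun w hw s hs => ?_⟩
    · apply Subtype.ext
      apply FaithfulSMul.eq_of_smul_eq_smul (α := Ω)
      intro a
      obtain ⟨s, hs⟩ := hStr.exists_smul_eq β a
      have := hfixs w s (hw s)
      have hs' : (s : G) • β = a := hs
      rw [hs'] at this
      simpa using this
    · have hw' : (w : G) ∉ N := hw
      have := eq_of_fix (h _ hw') (hfixs w s hs) w.2.2
      exact Subtype.ext (reg_eq_one S hStr hSc β s.2 this)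
  haveI hSnt : Nontrivial S := Finite.one_lt_card_iff_nontrivial.1 (by omega)
  have hS0 : S ≠ ⊥ := (Subgroup.nontrivial_iff_ne_bot S).1 hSnt
  -- `S` is abelian
  have hcomm : ∀ a b : S, a * b = b * a := by
    by_contra hc
    apply hb
    have h1 : center S ≠ ⊤ := by
      intro h1
      apply hc
      intro a b
      have : b ∈ center S := h1 ▸ mem_top b
      exact mem_center_iff.1 this a
    have h0 : center S ≠ ⊥ := (Subgroup.nontrivial_iff_ne_bot _).1 hSq.center_nontrivial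
    have := inv_sub hO (center S) (fun w u hu => by
      rw [mem_center_iff] at hu ⊢
      intro g
      have := congrArg (fun x => w • x) (hu (w⁻¹ • g))
      simpa [smul_mul'] using this) h0 h1
    rwa [hKi, hSc] at this
  have hcomm' : ∀ a ∈ S, ∀ b ∈ S, a * b = b * a := fun a ha b hb =>
    congrArg Subtype.val (hcomm ⟨a, ha⟩ ⟨b, hb⟩)
  have hKdvd : Nat.card K ∣ Nat.card (N ⊓ stabilizer G β : Subgroup G) := by
    have h1 : Nat.card K = Nat.card (N ⊓ W : Subgroup G) := by
      rw [hKdef, ← inf_subgroupOf_right]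
      exact Nat.card_congr (subgroupOfEquivOfLe inf_le_right).toEquiv
    rw [h1]
    exact card_dvd_of_le (inf_le_inf_left N inf_le_right)
  have hcop : Nat.Coprime (Nat.card K) (Nat.card S) := by
    obtain ⟨a, ha⟩ := hSq.exists_card_eq
    rw [ha]
    apply Nat.Coprime.pow_right
    exact ((Nat.Prime.coprime_iff_not_dvd hq).2 (fun hd => hqK (hd.trans hKdvd))).symm
  have hns : ¬ NS S K := by
    intro hns
    apply hb
    letI : CommGroup S := { (inferInstance : Group S) with mul_comm := hcomm }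
    have := affine (V := S) hO hcop hns
    rwa [hKi, hSc] at this
  have hsemi : ∀ w : W, w ∈ K → ∀ s : S, w • s = s → w = 1 ∨ s = 1 := by
    intro w hw s hs
    by_contra hc
    push Not at hc
    exact hns ⟨w, hw, hc.1, s, hc.2, hs⟩
  -- `r |K| ≤ n - 1`
  have hKr : Nat.card K * N.index + 1 ≤ Nat.card Ω := by
    obtain ⟨v, hv⟩ := exists_ne (1 : S)
    have h1 := orb_le hO K le_rfl hv {u : S | u ≠ 1} (fun w u hu h1 => hu (by
      have := congrArg (fun x => w⁻¹ • x) h1
      simpa using this)) hv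
    have h2 : (K ⊓ stabilizer W v : Subgroup W) = ⊥ := by
      rw [eq_bot_iff]
      intro w hw
      rcases hsemi w hw.1 v hw.2 with h3 | h3
      · exact mem_bot.2 h3
      · exact absurd h3 hv
    have h3 : ({u : S | u ≠ 1} : Set S).ncard + 1 = Nat.card S := by
      have : ({u : S | u ≠ 1} : Set S) = Set.univ \ {1} := by ext u; simp
      rw [this, Set.ncard_sdiff_singleton_add_one (Set.mem_univ _), Set.ncard_univ]
    rw [h2, card_bot, mul_one, hKi] at h1
    rw [← hSc, ← h3, mul_comm]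
    omega
  -- pass to `N`
  set S' : Subgroup N := S.subgroupOf N with hS'
  have hnorm : ∀ w : N, w ∈ normalizer (S' : Set N) → (w : G) ∈ normalizer (S : Set G) := by
    intro w hw
    rw [mem_normalizer_iff] at hw
    apply mem_normalizer_fintype
    intro s hs
    exact (hw ⟨s, hSN hs⟩).1 hs
  have hS'c : Nat.card S' = Nat.card Ω := by
    rw [← hSc]
    exact Nat.card_congr (subgroupOfEquivOfLe hSN).toEquiv
  have hS'tr : IsPretransitive S' Ω := by
    refine ⟨fun a b => ?_⟩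
    obtain ⟨s, hs⟩ := hStr.exists_smul_eq a b
    exact ⟨⟨⟨s.1, hSN s.2⟩, s.2⟩, hs⟩
  have hst : Nat.card (stabilizer N β) = Nat.card (N ⊓ stabilizer G β : Subgroup G) := by
    refine Nat.card_congr ⟨fun x => ⟨x.1.1, x.1.2, x.2⟩, fun x => ⟨⟨x.1, x.2.1⟩, x.2.2⟩, ?_, ?_⟩
    · intro x; rfl
    · intro x; rfl
  have hreg : Reg Ω S' := by
    refine cent_eq hq S' (hSq.of_equiv (subgroupOfEquivOfLe hSN).symm)
      (fun a ha b hb => Subtype.ext (hcomm' _ ha _ hb)) hS'tr hS'c β (hst ▸ hqK) ?_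
    intro w hw hwβ y hy hwy
    have h1 : (w : G) * y = y * w := congrArg Subtype.val hwy
    rcases hsemi ⟨w, hnorm w hw, hwβ⟩ w.2 ⟨y, hy⟩ (Subtype.ext (by
      rw [hsm]
      show (w : G) * y * (w : G)⁻¹ = y
      rw [h1, mul_inv_cancel_right])) with h2 | h2
    · exact Or.inl (Subtype.ext (congrArg (fun x : W => (x : G)) h2))
    · exact Or.inr (Subtype.ext (congrArg (fun x : S => (x : G)) h2))
  have hele : Nat.card (normalizer (S' : Set N) ⊓ stabilizer N β : Subgroup N) ≤ Nat.card K := by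
    refine Nat.card_le_card_of_injective
      (fun x => (⟨⟨x.1.1, hnorm x.1 x.2.1, x.2.2⟩, x.1.2⟩ : K)) ?_
    intro x y hxy
    exact Subtype.ext (Subtype.ext (congrArg (fun z : K => (z.1 : G)) hxy))
  obtain ⟨hn1, hn2⟩ := endgame hreg β N.index (Nat.pos_of_ne_zero index_ne_zero_of_finite)
    (not_le.1 hb) (le_trans (Nat.succ_le_succ (Nat.mul_le_mul_right _ hele)) hKr) hrk
  refine ⟨S, ?_, hS0, hcomm', fun g hg => ?_⟩
  · rw [← normalizer_eq_top_iff, eq_top_iff, ← hcov]
    refine sup_le inf_le_left (fun w hw => hnorm ⟨w, hw⟩ ?_)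
    rw [normalizer_eq_top_iff.2 hn1]
    exact mem_top _
  · by_cases hgN : g ∈ N
    · exact hn2 ⟨g, hgN⟩ (fun h1 => hg (congrArg Subtype.val h1))
    · exact (h g hgN).le

end H38.Drg
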