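import Mathlib
import Cfsg.Agent.Lib.Drg.Main
import Cfsg.Agent.Lib.Perm75.Derange
import Cfsg.Agent.S3547

namespace H38.Drg
open Subgroup MulAction
open scoped commutatorElement

variable {G Ω : Type*} [Group G] [Finite G] [MulAction G Ω] [Finite Ω]

theorem real_bound {r n : ℕ} (h : (r + 1) ^ 2 ≤ n) : (r : ℝ) ≤ Real.sqrt n - 1 := by
  have h1 : ((r : ℝ) + 1) ^ 2 ≤ n := by exact_mod_cast h
  have := Real.le_sqrt_of_sq_le h1
  linarith

theorem der_main [FaithfulSMul G Ω] (htr : IsPretransitive G Ω) (hΩ : 2 ≤ Nat.card Ω)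
    (hN : H75.derSub G Ω ≠ ⊤) :
    ((H75.derSub G Ω).index + 1) ^ 2 ≤ Nat.card Ω ∨ ∃ S : Subgroup G, S.Normal ∧ S ≠ ⊥ ∧
      (∀ a ∈ S, ∀ b ∈ S, a * b = b * a) ∧ ∀ g : G, g ≠ 1 → Nat.card (fixedBy Ω g) ≤ 1 := by
  haveI := H75.derSub_normal G Ω
  obtain ⟨h1, h2⟩ := H75.derSub_main htr
  refine main _ h1 h2 hN hΩ ?_
  have h3 := Cfsg.Agent.S3547.result (G := G) (Ω := Ω) htr
  have h4 : 2 ≤ Nat.card (orbitRel.Quotient G (Ω × Ω)) := by
    by_contra hc
    have h5 := H75.isPretransitive_of_card_orbits_le_one (G := G) (Ω := Ω × Ω) (by omega)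
    haveI : Nontrivial Ω := Finite.one_lt_card_iff_nontrivial.1 (by omega)
    obtain ⟨a, b, hab⟩ := exists_pair_ne Ω
    obtain ⟨g, hg⟩ := h5.exists_smul_eq (a, a) (a, b)
    have e1 : g • a = a := congrArg Prod.fst hg
    have e2 : g • a = b := congrArg Prod.snd hg
    exact hab (e1.symm.trans e2)
  have h5 : 2 ≤ (H75.derSub G Ω).index := by
    have h6 : (H75.derSub G Ω).index ≠ 0 := index_ne_zero_of_finite
    have h7 : (H75.derSub G Ω).index ≠ 1 := fun h => hN (index_eq_one.1 h)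
    omega
  have h6 : 1 * 2 ≤ (Nat.card (orbitRel.Quotient G (Ω × Ω)) - 1) * (H75.derSub G Ω).index :=
    Nat.mul_le_mul (by omega) h5
  have h7 : Nat.card (orbitRel.Quotient (H75.derSub G Ω) (Ω × Ω)) - 1 =
      (Nat.card (orbitRel.Quotient G (Ω × Ω)) - 1) * (H75.derSub G Ω).index := h3
  omega

theorem four_le [FaithfulSMul G Ω] (htr : IsPretransitive G Ω) (hΩ : 2 ≤ Nat.card Ω)
    (hna : ∀ N : Subgroup G, N.Normal → IsMulCommutative N → N = ⊥) : 4 ≤ Nat.card Ω := by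
  classical
  by_contra hc
  haveI := Fintype.ofFinite Ω
  have h1 : Nat.card G ∣ Nat.card (Equiv.Perm Ω) :=
    card_dvd_of_injective (MulAction.toPermHom G Ω) MulAction.toPerm_injective
  have h2 : Nat.card (Equiv.Perm Ω) ∣ 6 := by
    rw [Nat.card_perm]
    exact Nat.factorial_dvd_factorial (show Nat.card Ω ≤ 3 by omega)
  have h3 : Squarefree (Nat.card G) := by
    refine Squarefree.squarefree_of_dvd (h1.trans h2) ?_
    rw [show (6 : ℕ) = 2 * 3 from rfl, Nat.squarefree_mul (by norm_num)]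
    exact ⟨Nat.prime_two.prime.squarefree, Nat.prime_three.prime.squarefree⟩
  haveI : IsZGroup G := IsZGroup.of_squarefree h3
  haveI : IsCyclic (commutator G) := IsZGroup.isCyclic_commutator G
  have h4 : commutator G = ⊥ := hna _ inferInstance inferInstance
  have h5 : (⊤ : Subgroup G) = ⊥ := by
    refine hna _ inferInstance ⟨⟨fun a b => Subtype.ext ?_⟩⟩
    have : ⁅(a : G), (b : G)⁆ ∈ commutator G := commutator_mem_commutator (mem_top _) (mem_top _)
    rw [h4] at this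
    exact commutatorElement_eq_one_iff_mul_comm.1 (mem_bot.1 this)
  haveI : Nontrivial Ω := Finite.one_lt_card_iff_nontrivial.1 (by omega)
  obtain ⟨a, b, hab⟩ := exists_pair_ne Ω
  obtain ⟨g, hg⟩ := htr.exists_smul_eq a b
  have : g = 1 := mem_bot.1 (h5 ▸ mem_top g)
  rw [this, one_smul] at hg
  exact hab hg

end H38.Drg
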